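import Groth.Agent.GrpQLib.DenseQuot
import Groth.Agent.AlgSpDec.ActGroupoid
import Groth.Agent.AlgStLib.MonoQuotGraph

/-!
# The stabilizer and the graph of the groupoid of an action
-/

set_option backward.isDefEq.respectTransparency false
set_option backward.isDefEq.respectTransparency.types false

universe u

open CategoryTheory CategoryTheory.Limits AlgebraicGeometry MonoidalCategory CartesianMonoidalCategory MonObj

noncomputable section

namespace Groth.Agent.GrpQLib

open AlgStLib.MonoFactor (graph)

variable {S : Scheme.{u}} {G X : Over S} [GrpObj G] (a : AlgGrp.Action G X)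

theorem gpd_j : (AlgSpDec.ActGroupoid.gpd a).j = (graph a).left := by
  apply pullback.hom_ext
  · rw [GrpdLib.j_fst]
    exact (congrArg CommaMorphism.left (lift_fst a.act (snd G X))).symm
  · rw [GrpdLib.j_snd]
    exact (congrArg CommaMorphism.left (lift_snd a.act (snd G X))).symm

theorem gpd_diag : (AlgSpDec.ActGroupoid.gpd a).diag = (lift (𝟙 X) (𝟙 X)).left := by
  apply pullback.hom_ext
  · rw [GrpdLib.diag_fst]
    exact (congrArg CommaMorphism.left (lift_fst (𝟙 X) (𝟙 X))).symm
  · rw [GrpdLib.diag_snd]
    exact (congrArg CommaMorphism.left (lift_snd (𝟙 X) (𝟙 X))).symm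

/-- The stabilizer of the groupoid of an action is the stabilizer of the diagonal. -/
theorem stabilizer_property (P : MorphismProperty Scheme.{u}) [P.RespectsIso] :
    P (AlgSpDec.ActGroupoid.gpd a).stabilizerToU ↔
      P (pullback.snd (graph a) (lift (𝟙 X) (𝟙 X))).left := by
  have h := (IsPullback.of_hasPullback (graph a) (lift (𝟙 X) (𝟙 X))).map (Over.forget S)
  have h' : IsPullback (pullback.fst (AlgSpDec.ActGroupoid.gpd a).j (AlgSpDec.ActGroupoid.gpd a).diag)
      (AlgSpDec.ActGroupoid.gpd a).stabilizerToU (graph a).left (lift (𝟙 X) (𝟙 X)).left := by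
    rw [← gpd_j, ← gpd_diag]; exact IsPullback.of_hasPullback _ _
  rw [← IsPullback.isoIsPullback_hom_snd _ _ h' h, P.cancel_left_of_respectsIso]
  rfl

/-- A quasi-finite stabilizer makes the graph quasi-finite. -/
theorem locallyQuasiFinite_graph [IsNoetherian S] [LocallyOfFiniteType G.hom] [QuasiCompact G.hom]
    [LocallyOfFiniteType X.hom] [QuasiCompact X.hom]
    (hF : LocallyQuasiFinite (pullback.snd (graph a) (lift (𝟙 X) (𝟙 X))).left) :
    LocallyQuasiFinite (graph a).left := by
  have hwh : LocallyQuasiFinite (G ◁ pullback.snd (graph a) (lift (𝟙 X) (𝟙 X))).left := by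
    let F := pullback (graph a) (lift (𝟙 X) (𝟙 X))
    let x : F ⟶ X := pullback.snd (graph a) (lift (𝟙 X) (𝟙 X))
    have sq : IsPullback (snd G F).left (G ◁ x).left x.left (snd G X).left := by
      refine (IsPullback.of_right (v₁₁ := (snd G F).left) (v₁₂ := (snd G X).left)
        (h₁₁ := (G ◁ x).left) (h₂₁ := x.left) (h₁₂ := (fst G X).left) (h₂₂ := X.hom) ?_ ?_
        (IsPullback.of_hasPullback G.hom X.hom)).flip
      · rw [Over.w x, ← Over.comp_left, whiskerLeft_fst]
        exact IsPullback.of_hasPullback G.hom F.hom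
      · rw [← Over.comp_left, ← Over.comp_left, whiskerLeft_snd]
    exact MorphismProperty.of_isPullback (P := @LocallyQuasiFinite) sq hF
  have sq' : IsPullback _ (G ◁ pullback.snd (graph a) (lift (𝟙 X) (𝟙 X))).left (graph a).left (graph a).left :=
    (AlgStLib.MonoFactor.isPullback_graph a).map (Over.forget S)
  haveI hpr : LocallyQuasiFinite (pullback.snd (graph a).left (graph a).left) := by
    rw [← MorphismProperty.cancel_left_of_respectsIso (P := @LocallyQuasiFinite) sq'.isoPullback.hom,
      IsPullback.isoPullback_hom_snd]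
    exact hwh
  haveI : LocallyOfFiniteType (G ⊗ X).hom :=
    inferInstanceAs (LocallyOfFiniteType (pullback.fst G.hom X.hom ≫ G.hom))
  haveI : QuasiCompact (G ⊗ X).hom := inferInstanceAs (QuasiCompact (pullback.fst G.hom X.hom ≫ G.hom))
  haveI : CompactSpace (G ⊗ X).left := QuasiCompact.compactSpace_of_compactSpace (G ⊗ X).hom
  haveI : IsLocallyNoetherian (G ⊗ X).left := LocallyOfFiniteType.isLocallyNoetherian (G ⊗ X).hom
  haveI : IsNoetherian (G ⊗ X).left := ⟨⟩
  haveI : LocallyOfFiniteType (X ⊗ X).hom :=
    inferInstanceAs (LocallyOfFiniteType (pullback.fst X.hom X.hom ≫ X.hom))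
  haveI : IsLocallyNoetherian (X ⊗ X).left := LocallyOfFiniteType.isLocallyNoetherian (X ⊗ X).hom
  haveI : LocallyOfFiniteType ((graph a).left ≫ (X ⊗ X).hom) := by rw [Over.w]; infer_instance
  haveI : LocallyOfFiniteType (graph a).left := locallyOfFiniteType_of_comp _ (X ⊗ X).hom
  haveI : QuasiCompact (graph a).left := inferInstance
  refine LocallyQuasiFinite.of_finite_preimage_singleton _ fun y => ?_
  by_cases hy : ∃ x, (graph a).left x = y
  · obtain ⟨x, hx⟩ := hy
    refine (((pullback.snd (graph a).left (graph a).left).finite_preimage_singleton x).image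
      (pullback.fst (graph a).left (graph a).left)).subset fun w hw => ?_
    obtain ⟨z, hz1, hz2⟩ := Scheme.Pullback.exists_preimage_pullback (f := (graph a).left) (g := (graph a).left)
      w x ((hw : (graph a).left w = y).trans hx.symm)
    exact ⟨z, hz2, hz1⟩
  · exact Set.Finite.subset Set.finite_empty fun w hw => hy ⟨w, hw⟩

end Groth.Agent.GrpQLib
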