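import Groth.Agent.GrpQLib.Quot

/-!
# A dense saturated open with a quotient
-/

set_option backward.isDefEq.respectTransparency false
set_option backward.isDefEq.respectTransparency.types false

universe u

open CategoryTheory CategoryTheory.Limits AlgebraicGeometry Grpd TopologicalSpace

noncomputable section

namespace Groth.Agent.GrpQLib

open GrpdLib

variable {S : Scheme.{u}} (G : GroupoidScheme S) (W : G.U.Opens) (hW : GrpdLib.IsInv G W) {Z : Scheme.{u}} (g : Z ⟶ G.U)

theorem isPullback_srcMap_restrict :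
    ∃ κ, IsPullback κ (srcMap (restrict G W hW) (g ∣_ W)) (srcMap G g) W.ι := by
  let T' := resT G W hW
  have o1 : IsPullback (pullback.snd T' (g ∣_ W) ≫ (g ⁻¹ᵁ W).ι) (pullback.fst T' (g ∣_ W)) g ((G.s ⁻¹ᵁ W).ι ≫ G.t) := by
    rw [← resT_ι G W hW]
    exact (IsPullback.of_hasPullback T' (g ∣_ W)).flip.paste_horiz (isPullback_morphismRestrict g W).flip
  let κ : pullback T' (g ∣_ W) ⟶ pullback G.t g :=
    pullback.lift (pullback.fst T' (g ∣_ W) ≫ (G.s ⁻¹ᵁ W).ι) (pullback.snd T' (g ∣_ W) ≫ (g ⁻¹ᵁ W).ι)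
      (by rw [Category.assoc, Category.assoc]; simpa only [Category.assoc] using o1.w.symm)
  have a : IsPullback κ (pullback.fst T' (g ∣_ W)) (pullback.fst G.t g) (G.s ⁻¹ᵁ W).ι :=
    IsPullback.of_right (by rw [pullback.lift_snd]; exact o1) (pullback.lift_fst _ _ _)
      (IsPullback.of_hasPullback G.t g).flip
  exact ⟨κ, a.paste_vert (isPullback_morphismRestrict G.s W).flip⟩

theorem srcMap_restrict_property (P : MorphismProperty Scheme.{u}) [P.RespectsIso] (h : P (srcMap G g ∣_ W)) :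
    P (srcMap (restrict G W hW) (g ∣_ W)) := by
  obtain ⟨κ, hκ⟩ := isPullback_srcMap_restrict G W hW g
  have e := (isPullback_morphismRestrict (srcMap G g) W).flip
  rw [← hκ.isoIsPullback_hom_snd _ _ e, P.cancel_left_of_respectsIso]
  exact h

theorem exists_dense_quotient [IsNoetherian S] (G : GroupoidScheme S) [Flat G.s] [LocallyOfFiniteType G.s]
    [QuasiCompact G.s] [LocallyOfFiniteType G.pU] [QuasiCompact G.pU] [LocallyQuasiFinite G.j] :
    ∃ (W : G.U.Opens) (hW : G.t ⁻¹ᵁ W = G.s ⁻¹ᵁ W), Dense (W : Set G.U) ∧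
      ∃ (V : Scheme.{u}) (p : (W : Scheme.{u}) ⟶ V)
        (w : G.t.resLE W (G.s ⁻¹ᵁ W) hW.ge ≫ p = (G.s ∣_ W) ≫ p) (q : V ⟶ S),
        Nonempty (IsColimit (Cofork.ofπ p w)) ∧ p ≫ q = W.ι ≫ G.pU ∧
        Surjective p ∧ IsOpenMap p.base ∧ LocallyOfFinitePresentation p ∧
        LocallyOfFinitePresentation q ∧ QuasiCompact q ∧ QuasiSeparated q ∧
        Function.Surjective (pullback.lift (G.t.resLE W (G.s ⁻¹ᵁ W) hW.ge) (G.s ∣_ W) w).base ∧
        (Mono G.j → IsPullback (G.t.resLE W (G.s ⁻¹ᵁ W) hW.ge) (G.s ∣_ W) p p ∧ Flat p) := by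
  haveI : IsLocallyNoetherian G.U := LocallyOfFiniteType.isLocallyNoetherian G.pU
  haveI : CompactSpace G.U := QuasiCompact.compactSpace_of_compactSpace G.pU
  haveI : IsNoetherian G.U := ⟨⟩
  haveI : LocallyOfFinitePresentation G.s := inferInstance
  haveI := flat_t G
  haveI := lfp_t G
  obtain ⟨W, hW, Z, hZ, g, hd, h1, h2, h3, h4⟩ := exists_finite_slice G
  haveI := hZ
  have hinv : GrpdLib.IsInv G W := hW.symm
  let G' := restrict G W hinv
  let u : (g ⁻¹ᵁ W).toScheme ⟶ G'.U := g ∣_ W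
  have hfin : ∀ E : Set (g ⁻¹ᵁ W).toScheme, E.Finite →
      ∃ O : (g ⁻¹ᵁ W).toScheme.Opens, IsAffineOpen O ∧ E ⊆ (O : Set (g ⁻¹ᵁ W).toScheme) := by
    intro E hE
    obtain ⟨c, hEc, hcW⟩ := GrpdLib.exists_basicOpen_of_finite (isAffineOpen_top Z) (hE.image (g ⁻¹ᵁ W).ι)
      (g ⁻¹ᵁ W) (Set.subset_univ _) (by rintro _ ⟨z, -, rfl⟩; exact z.2)
    refine ⟨(g ⁻¹ᵁ W).ι ⁻¹ᵁ Z.basicOpen c, ?_, fun z hz => hEc ⟨z, hz, rfl⟩⟩
    exact ((isAffineOpen_top Z).basicOpen c).preimage_of_isOpenImmersion _ (by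
      rw [Scheme.Opens.opensRange_ι]; exact hcW)
  obtain ⟨V, p, w, hc, hs, ho, -, hl, hm, hq⟩ := coequalizer_of_slice G' u
    ⟨srcMap_restrict_property G W hinv g @IsFinite h1, srcMap_restrict_property G W hinv g @Flat h2,
      srcMap_restrict_property G W hinv g @LocallyOfFinitePresentation h3,
      srcMap_restrict_property G W hinv g @Surjective h4⟩ hfin
  obtain ⟨κ, hκ⟩ := isPullback_srcMap_restrict G W hinv g
  have hft : LocallyOfFiniteType (u ≫ G'.pU) := by
    haveI : LocallyOfFiniteType (unitV G' u ≫ pullback.snd G'.t u) := by rw [unitV_snd]; infer_instance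
    haveI : LocallyOfFiniteType (unitV G' u) := locallyOfFiniteType_of_comp _ (pullback.snd G'.t u)
    haveI : LocallyOfFinitePresentation (srcMap G' u) :=
      srcMap_restrict_property G W hinv g @LocallyOfFinitePresentation h3
    haveI : LocallyOfFiniteType G'.pU := inferInstanceAs (LocallyOfFiniteType (W.ι ≫ G.pU))
    rw [← unitV_src (G := G') (g := u)]
    infer_instance
  obtain ⟨q, hpq, hqft⟩ := hq inferInstance hft
  haveI := hs; haveI := hqft
  haveI : LocallyOfFiniteType (p ≫ q) := by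
    rw [hpq]; exact inferInstanceAs (LocallyOfFiniteType (W.ι ≫ G.pU))
  haveI : IsLocallyNoetherian V := LocallyOfFiniteType.isLocallyNoetherian q
  haveI : LocallyOfFiniteType p := locallyOfFiniteType_of_comp p q
  have hto : IsOpenMap G'.t.base := by
    haveI : Flat G'.t := by show Flat (G.t.resLE W _ _); rw [Scheme.Hom.resLE]; infer_instance
    haveI : LocallyOfFinitePresentation G'.t := by
      show LocallyOfFinitePresentation (G.t.resLE W _ _); rw [Scheme.Hom.resLE]; infer_instance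
    exact G'.t.isOpenMap
  haveI : CompactSpace G'.U := isCompact_iff_compactSpace.1 (NoetherianSpace.isCompact (W : Set G.U))
  haveI : CompactSpace V := hs.surj.compactSpace p.continuous
  refine ⟨W, hW, hd, V, p, w, q, hc, hpq, hs, ho hto, inferInstance, inferInstance, inferInstance, inferInstance,
    hl, fun hmono => ?_⟩
  haveI : Mono G'.j := GrpdLib.mono_j_restrict G W hinv
  refine ⟨(hm inferInstance).1, (hm inferInstance).2 ?_⟩
  show Flat (G.t.resLE W _ _)
  rw [Scheme.Hom.resLE]; infer_instance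

end Groth.Agent.GrpQLib
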