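import Groth.Agent.S15708
import Groth.Agent.ZeroSchX.Basic
import Groth.Agent.InvX.Tensor
import Groth.Agent.InvX.GenLocus
import Groth.Agent.TwistX.Global
import Groth.Agent.SegreX.Basic
import Groth.Agent.ModPairLib.Basic
import Groth.Agent.GrpdLib.AffLocQuot

/-!
# Hypersurfaces of projective space over the integers, pulled back to a scheme
-/

set_option backward.isDefEq.respectTransparency false
set_option backward.isDefEq.respectTransparency.types false

universe u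

open CategoryTheory CategoryTheory.Limits AlgebraicGeometry TopologicalSpace

noncomputable section

namespace Groth.Agent.GrpQLib

open Groth.Agent

section Sect

open Opposite MonoidalCategory

variable {R A : Type u} [CommRing R] [CommRing A] [Algebra R A]
  {𝒜 : ℕ → Submodule R A} [GradedAlgebra 𝒜]

/-- The generating locus of a global section of a twist (as in `TwistCover`, with light imports). -/
theorem genLocus_globalSect {n : ℕ} (hcov : (⨆ g : 𝒜 n, Proj.basicOpen 𝒜 (g : A)) = ⊤) (g : 𝒜 n) :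
    CohB1.genLocus (Twist.twist 𝒜 (n : ℤ))
      (InvX.ofSect (show Γ(Twist.twist 𝒜 (n : ℤ), ⊤) from Twist.globalOf 𝒜 g)) = Proj.basicOpen 𝒜 (g : A) := by
  refine le_antisymm (fun x hx => ?_) (InvX.le_genLocus _ (by
    rw [InvX.one_ofSect]; exact TwistX.isFrame_res_globalOf g.2 fun y => y.2))
  obtain ⟨U, hxU, hU⟩ := InvX.mem_genLocus hx
  rw [InvX.one_ofSect] at hU
  obtain ⟨g', hg'⟩ := Opens.mem_iSup.1 (hcov.ge (trivial : x ∈ (⊤ : (Proj 𝒜).Opens)))
  obtain ⟨r, hr⟩ := hU.exists_coord (inf_le_left : U ⊓ Proj.basicOpen 𝒜 (g' : A) ≤ U)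
    (AModX.res (Twist.twist 𝒜 (n : ℤ)) le_top (Twist.globalOf 𝒜 g'))
  rw [AModX.res_res] at hr
  have h := congrArg (fun q => ((show Twist.sectN (𝒜 := 𝒜) (n : ℤ) (op (U ⊓ Proj.basicOpen 𝒜 (g' : A))) from q).1
    ⟨x, hxU, hg'⟩).1) hr
  have h' : (Localization.mk (g' : A) 1 : Twist.Loc 𝒜 x) =
      ((show Twist.O (𝒜 := 𝒜) (op (U ⊓ Proj.basicOpen 𝒜 (g' : A))) from r).1 ⟨x, hxU, hg'⟩).val *
        Localization.mk (g : A) 1 :=
    h.trans (Twist.coe_smul_val (n : ℤ) x _ _)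
  have hu : IsUnit (Localization.mk (g' : A) 1 : Twist.Loc 𝒜 x) := by
    rw [Localization.mk_one_eq_algebraMap]
    exact (IsLocalization.AtPrime.isUnit_to_map_iff _ x.asHomogeneousIdeal.toIdeal _).2 hg'
  rw [h'] at hu
  have hu' := isUnit_of_mul_isUnit_right hu
  rw [Localization.mk_one_eq_algebraMap] at hu'
  exact (IsLocalization.AtPrime.isUnit_to_map_iff _ x.asHomogeneousIdeal.toIdeal _).1 hu'

/-- A twist covered in its degree is invertible. -/
theorem isInvertible_twist_of_cover {n : ℕ} (hcov : (⨆ g : 𝒜 n, Proj.basicOpen 𝒜 (g : A)) = ⊤) :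
    PicF.IsInvertible (Twist.twist 𝒜 (n : ℤ)) := InvX.isInvertible_of_frames fun x => by
  obtain ⟨g, hg⟩ := Opens.mem_iSup.1 (hcov.ge (trivial : x ∈ (⊤ : (Proj 𝒜).Opens)))
  exact ⟨_, hg, _, TwistX.isFrame_res_globalOf g.2 fun y => y.2⟩

end Sect

variable (n : ℕ)


/-- Finitely many points avoid some hypersurface. -/
theorem exists_hyper_avoid (T : Set (CohB1.ProjSpace n (ULift.{u} ℤ))) (hT : T.Finite) :
    ∃ (f : MvPolynomial (Fin (n + 1)) (ULift.{u} ℤ)) (d : ℕ), 0 < d ∧ f ∈ (CohB1.polyGrading n (ULift.{u} ℤ)) d ∧ ∀ x ∈ T, x ∈ Proj.basicOpen (CohB1.polyGrading n (ULift.{u} ℤ)) f := by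
  classical
  haveI : IsNoetherianRing (ULift.{u} ℤ) := isNoetherianRing_of_ringEquiv ℤ ULift.ringEquiv.symm
  obtain ⟨z, d, hd, hz, -, hzP⟩ := S15708.result (CohB1.polyGrading n (ULift.{u} ℤ)) ⊤ (fun i r _ => trivial)
    (hT.toFinset.image fun x => x.asHomogeneousIdeal.toIdeal) (fun p hp => by
      obtain ⟨x, -, rfl⟩ := Finset.mem_image.1 hp
      exact ⟨x.isPrime, x.not_irrelevant_le, fun h => x.isPrime.ne_top (top_le_iff.1 h)⟩)
  exact ⟨z, d, hd, hz, fun x hx => hzP _ (Finset.mem_image_of_mem _ (hT.mem_toFinset.2 hx))⟩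

theorem isAffineOpen_hyper {f : MvPolynomial (Fin (n + 1)) (ULift.{u} ℤ)} {d : ℕ} (hd : 0 < d) (hf : f ∈ (CohB1.polyGrading n (ULift.{u} ℤ)) d) :
    IsAffineOpen (Proj.basicOpen (CohB1.polyGrading n (ULift.{u} ℤ)) f) :=
  Proj.isAffineOpen_basicOpen (CohB1.polyGrading n (ULift.{u} ℤ)) f hf hd

/-- The coordinate charts. -/
def chart (i : Fin (n + 1)) : (CohB1.ProjSpace n (ULift.{u} ℤ)).Opens := Proj.basicOpen (CohB1.polyGrading n (ULift.{u} ℤ)) (MvPolynomial.X i)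

theorem X_mem (i : Fin (n + 1)) : (MvPolynomial.X i : MvPolynomial (Fin (n + 1)) (ULift.{u} ℤ)) ∈ (CohB1.polyGrading n (ULift.{u} ℤ)) 1 :=
  MvPolynomial.isHomogeneous_X _ i

theorem isAffineOpen_chart (i : Fin (n + 1)) : IsAffineOpen (chart.{u} n i) :=
  Proj.isAffineOpen_basicOpen (CohB1.polyGrading n (ULift.{u} ℤ)) _ (X_mem n i) one_pos

theorem exists_mem_chart (x : (CohB1.ProjSpace n (ULift.{u} ℤ))) : ∃ i, x ∈ chart n i :=
  Opens.mem_iSup.1 ((Proj.iSup_basicOpen_eq_top (CohB1.polyGrading n (ULift.{u} ℤ)) (fun i : Fin (n + 1) => MvPolynomial.X i)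
    (SegreX.irrelevant_le_span n (ULift.{u} ℤ))).ge (trivial : x ∈ (⊤ : (CohB1.ProjSpace n (ULift.{u} ℤ)).Opens)))

/-- A hypersurface, cut by one equation on every coordinate chart. -/
theorem exists_hypersurface {f : MvPolynomial (Fin (n + 1)) (ULift.{u} ℤ)} {d : ℕ} (hf : f ∈ (CohB1.polyGrading n (ULift.{u} ℤ)) d) :
    ∃ H : (CohB1.ProjSpace n (ULift.{u} ℤ)).IdealSheafData, (H.support : Set (CohB1.ProjSpace n (ULift.{u} ℤ))) = (↑(Proj.basicOpen (CohB1.polyGrading n (ULift.{u} ℤ)) f) : Set (Proj (CohB1.polyGrading n (ULift.{u} ℤ))))ᶜ ∧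
      ∀ i, ∃ c, H.ideal ⟨chart n i, isAffineOpen_chart n i⟩ = Ideal.span {c} := by
  have hXd : ∀ i : Fin (n + 1), (MvPolynomial.X i : MvPolynomial (Fin (n + 1)) (ULift.{u} ℤ)) ^ d ∈ (CohB1.polyGrading n (ULift.{u} ℤ)) d := fun i => by
    simpa using SetLike.pow_mem_graded d (X_mem.{u} n i)
  have hnv : ∀ i, TwistX.NonVan (𝒜 := (CohB1.polyGrading n (ULift.{u} ℤ))) ((MvPolynomial.X i : MvPolynomial (Fin (n + 1)) (ULift.{u} ℤ)) ^ d)
      (chart n i) := fun i y hy => y.1.isPrime.mem_of_pow_mem d hy |> y.2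
  have hcov : (⨆ g : (CohB1.polyGrading n (ULift.{u} ℤ)) d, Proj.basicOpen (CohB1.polyGrading n (ULift.{u} ℤ)) (g : MvPolynomial (Fin (n + 1)) (ULift.{u} ℤ))) = ⊤ :=
    eq_top_iff.2 fun x _ => by
      obtain ⟨i, hi⟩ := exists_mem_chart n x
      exact Opens.mem_iSup.2 ⟨⟨_, hXd i⟩, hnv i ⟨x, hi⟩⟩
  let L := Twist.twist (CohB1.polyGrading n (ULift.{u} ℤ)) (d : ℤ)
  have hL : PicF.IsInvertible L := isInvertible_twist_of_cover hcov
  let s : Coh.structureModule (CohB1.ProjSpace n (ULift.{u} ℤ)) ⟶ L :=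
    InvX.ofSect (show Γ(L, ⊤) from Twist.globalOf (CohB1.polyGrading n (ULift.{u} ℤ)) ⟨f, hf⟩)
  have hcoord : ∀ i, ∃ c, (PicF2.zeroScheme L s).ideal ⟨chart n i, isAffineOpen_chart n i⟩ = Ideal.span {c} ∧
      Proj.basicOpen (CohB1.polyGrading n (ULift.{u} ℤ)) f ⊓ chart n i = (CohB1.ProjSpace n (ULift.{u} ℤ)).basicOpen c := fun i => by
    have he := TwistX.isFrame_res_globalOf (𝒜 := (CohB1.polyGrading n (ULift.{u} ℤ))) (hXd i) (hnv i)
    obtain ⟨c, hc⟩ := he.exists_coord le_rfl (ZeroSchX.sv s (chart n i))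
    rw [AModX.res_self] at hc
    refine ⟨c, by rw [ZeroSchX.ideal_zeroScheme hL, ZeroSchX.zeroIdealOn_eq_span s he hc]; rfl, ?_⟩
    have h := InvX.genLocus_inf s he (g := c)
      (by rw [← hc]; exact ZeroSchX.res_sv s (le_top : chart n i ≤ ⊤))
    rw [genLocus_globalSect hcov ⟨f, hf⟩] at h
    exact h
  refine ⟨PicF2.zeroScheme L s, Set.ext fun x => ?_, fun i => (hcoord i).imp fun c h => h.1⟩
  obtain ⟨i, hi⟩ := exists_mem_chart n x
  obtain ⟨c, hc, hcf⟩ := hcoord i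
  rw [SetLike.mem_coe, Scheme.IdealSheafData.mem_support_iff_of_mem (U := ⟨_, isAffineOpen_chart n i⟩) hi, hc,
    Scheme.zeroLocus_span, Scheme.zeroLocus_singleton, Set.mem_compl_iff, Set.mem_compl_iff, SetLike.mem_coe,
    SetLike.mem_coe, ← hcf]
  exact ⟨fun h h' => h ⟨h', hi⟩, fun h h' => h h'.1⟩

/-- The closed subscheme cut out by a hypersurface in a scheme over projective space. -/
theorem exists_cut {f : MvPolynomial (Fin (n + 1)) (ULift.{u} ℤ)} {d : ℕ}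
    (hf : f ∈ (CohB1.polyGrading n (ULift.{u} ℤ)) d) :
    ∃ (H : Scheme.{u}) (h : H ⟶ (CohB1.ProjSpace n (ULift.{u} ℤ))), IsClosedImmersion h ∧
      ∀ {Y : Scheme.{u}} (q : Y ⟶ (CohB1.ProjSpace n (ULift.{u} ℤ))),
      LocallyOfFinitePresentation (pullback.fst q h) ∧
      Set.range (pullback.fst q h) = ((q ⁻¹ᵁ Proj.basicOpen (CohB1.polyGrading n (ULift.{u} ℤ)) f : Y.Opens) : Set Y)ᶜ ∧
      ∀ (V : Y.affineOpens) (i : Fin (n + 1)), V.1 ≤ q ⁻¹ᵁ chart n i →
        ∃ c, (pullback.fst q h).ker.ideal V = Ideal.span {c} := by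
  obtain ⟨H, hsupp, hH⟩ := exists_hypersurface n hf
  refine ⟨_, H.subschemeι, inferInstance, fun {Y} q => ?_⟩
  have hprin : ∀ (V : Y.affineOpens) (i : Fin (n + 1)), V.1 ≤ q ⁻¹ᵁ chart n i →
      ∃ c, (pullback.fst q H.subschemeι).ker.ideal V = Ideal.span {c} := fun V i hV => by
    obtain ⟨c, hc⟩ := hH i
    refine ⟨(q.appLE _ V.1 hV).hom c, ?_⟩
    rw [Scheme.IdealSheafData.ker_fst_of_isClosedImmersion, Scheme.IdealSheafData.ker_subschemeι,
      ModPairLib.ideal_comap H q ⟨_, isAffineOpen_chart n i⟩ V hV, hc, Ideal.map_span, Set.image_singleton]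
  refine ⟨?_, ?_, ?_⟩
  swap
  · rw [Scheme.Pullback.range_fst, Scheme.IdealSheafData.range_subschemeι, hsupp]
    rfl
  swap
  · exact hprin
  let a := pullback.fst q H.subschemeι
  have hcover : ∀ y : Y, ∃ V : Y.Opens, IsAffineOpen V ∧ y ∈ V ∧ ∃ i, V ≤ q ⁻¹ᵁ chart n i := fun y => by
    obtain ⟨i, hi⟩ := exists_mem_chart n (q y)
    obtain ⟨_, ⟨V, hV, rfl⟩, hyV, hVi⟩ :=
      Y.isBasis_affineOpens.exists_subset_of_mem_open hi (q ⁻¹ᵁ chart n i).isOpen
    exact ⟨V, hV, hyV, i, hVi⟩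
  choose V hV hyV i hVi using hcover
  refine (IsZariskiLocalAtTarget.iff_of_iSup_eq_top (P := @LocallyOfFinitePresentation) V
    (eq_top_iff.2 fun y _ => Opens.mem_iSup.2 ⟨y, hyV y⟩)).2 fun y => ?_
  have : IsAffine (V y).toScheme := hV y
  have : IsAffine (a ⁻¹ᵁ V y).toScheme := (hV y).preimage a
  rw [HasRingHomProperty.iff_of_isAffine (P := @LocallyOfFinitePresentation), GrpdLib.morphismRestrict_appTop']
  have : IsClosedImmersion (a ∣_ V y) := IsZariskiLocalAtTarget.restrict (P := @IsClosedImmersion) (f := a) inferInstance _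
  have hsurj : Function.Surjective (a.app (V y)).hom := by
    have h := ((HasAffineProperty.iff_of_isAffine (P := @IsClosedImmersion) (f := a ∣_ V y)).1 ‹_›).2
    rw [GrpdLib.morphismRestrict_appTop'] at h
    simp only [CommRingCat.hom_comp, RingHom.coe_comp] at h
    intro x
    obtain ⟨z, hz⟩ := h ((a ⁻¹ᵁ V y).topIso.inv x)
    exact ⟨(V y).topIso.hom z, (ConcreteCategory.bijective_of_isIso _).1 hz⟩
  have hfp : (a.app (V y)).hom.FinitePresentation :=
    RingHom.FinitePresentation.of_surjective _ hsurj (by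
      obtain ⟨c, hc⟩ := hprin ⟨V y, hV y⟩ (i y) (hVi y)
      rw [Scheme.Hom.ker_apply] at hc
      rw [hc]
      exact ⟨{c}, by simp⟩)
  simp only [CommRingCat.hom_comp]
  exact ((RingHom.FinitePresentation.of_bijective (ConcreteCategory.bijective_of_isIso _)).comp hfp).comp
    (RingHom.FinitePresentation.of_bijective (ConcreteCategory.bijective_of_isIso _))

end Groth.Agent.GrpQLib
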