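import Groth.Agent.AlgSpDec.SliceFlat
import Groth.Agent.GrpQLib.Hyper
import Groth.Agent.FlatLocus.Basic
import Groth.Agent.GrpdLib.GlueQuot

/-!
# Cutting a flat morphism by a hypersurface keeps flatness
-/

set_option backward.isDefEq.respectTransparency false
set_option backward.isDefEq.respectTransparency.types false

universe u

open CategoryTheory CategoryTheory.Limits AlgebraicGeometry TopologicalSpace

noncomputable section

namespace Groth.Agent.GrpQLib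

open Groth.Agent

/-- Finitely many primes control regularity on the fibre at a prime. -/
theorem exists_primes_reg {O A : Type u} [CommRing O] [CommRing A] [Algebra O A] [Algebra.FiniteType O A]
    (p : Ideal O) [p.IsPrime] :
    ∃ T : Set (Ideal A), T.Finite ∧ (∀ P ∈ T, P.IsPrime) ∧ ∀ (c : A) (Q : Ideal A) [Q.IsPrime] [Q.LiesOver p],
      (∀ P ∈ T, c ∉ P) → ∀ t, c * t ∈ FlatModel.sat p ⊥ Q.primeCompl → t ∈ FlatModel.sat p ⊥ Q.primeCompl := by
  classical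
  let pA := p.map (algebraMap O A)
  let M := Algebra.algebraMapSubmonoid A p.primeCompl
  let Sp := Localization M
  let Ab := Sp ⧸ pA.map (algebraMap A Sp)
  have : IsNoetherianRing (p.Fiber A) := Algebra.FiniteType.isNoetherianRing p.ResidueField _
  letI : Algebra A (p.Fiber A) := Algebra.TensorProduct.rightAlgebra
  have : IsNoetherianRing Ab :=
    isNoetherianRing_of_ringEquiv (p.Fiber A) (Ideal.Fiber.algEquivAux₁ (S := A) p).toRingEquiv
  let π : A →+* Ab := (Ideal.Quotient.mk _).comp (algebraMap A Sp)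
  have hker : ∀ a, π a = 0 → ∃ m ∈ M, m * a ∈ pA := fun a ha => by
    exact (IsLocalization.algebraMap_mem_map_algebraMap_iff M Sp pA a).1 (Ideal.Quotient.eq_zero_iff_mem.1 ha)
  refine ⟨(Ideal.comap π) '' associatedPrimes Ab Ab, (associatedPrimes.finite Ab Ab).image _, ?_, ?_⟩
  · rintro _ ⟨P, hP, rfl⟩
    have := hP.isPrime
    infer_instance
  intro c Q _ _ hc t ht
  have hreg : π c ∈ nonZeroDivisors Ab := by
    by_contra h
    have h' : π c ∈ ⋃ P ∈ associatedPrimes Ab Ab, (P : Set Ab) := by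
      rw [biUnion_associatedPrimes_eq_compl_nonZeroDivisors]
      exact h
    obtain ⟨P, hP, hcP⟩ := Set.mem_iUnion₂.1 h'
    exact hc _ ⟨P, hP, rfl⟩ hcP
  obtain ⟨w, hw, hwt⟩ := ht
  rw [bot_sup_eq] at hwt
  have h0 : π (w * (c * t)) = 0 :=
    Ideal.Quotient.eq_zero_iff_mem.2 (Ideal.mem_map_of_mem _ hwt)
  have h1 : π (w * t) * π c = 0 := by rw [← map_mul, ← h0]; congr 1; ring
  obtain ⟨m, hm, hmt⟩ := hker _ ((mem_nonZeroDivisors_iff.1 hreg).2 _ h1)
  obtain ⟨o, ho, rfl⟩ := hm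
  refine ⟨algebraMap O A o * w, mul_mem ?_ hw, ?_⟩
  · exact fun h => ho ((Q.over_def p).ge h)
  · rw [bot_sup_eq, mul_assoc]
    exact hmt

variable {X U : Scheme.{u}} (h : X ⟶ U) [LocallyOfFinitePresentation h] [QuasiCompact h]
  {n : ℕ} (q : X ⟶ CohB1.ProjSpace n (ULift.{u} ℤ)) (z : U)

/-- A finite set of points such that hypersurfaces avoiding it cut `h` flatly over `z`. -/
theorem exists_avoid_set (hflat : ∀ x, h x = z → (h.stalkMap x).hom.Flat) :
    ∃ T : Set X, T.Finite ∧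
      ∀ (f : MvPolynomial (Fin (n + 1)) (ULift.{u} ℤ)) (H : Scheme.{u})
        (hH : H ⟶ CohB1.ProjSpace n (ULift.{u} ℤ)) (_ : IsClosedImmersion hH),
        Set.range (pullback.fst q hH) =
          ((q ⁻¹ᵁ Proj.basicOpen (CohB1.polyGrading n (ULift.{u} ℤ)) f : X.Opens) : Set X)ᶜ →
        (∀ (V : X.affineOpens) (i : Fin (n + 1)), V.1 ≤ q ⁻¹ᵁ chart n i →
          ∃ c, (pullback.fst q hH).ker.ideal V = Ideal.span {c}) →
        (∀ x ∈ T, q x ∈ Proj.basicOpen (CohB1.polyGrading n (ULift.{u} ℤ)) f) →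
        ∀ x', h (pullback.fst q hH x') = z → ((pullback.fst q hH ≫ h).stalkMap x').hom.Flat := by
  classical
  obtain ⟨O, hO, hzO⟩ := GrpdLib.exists_affineOpen_mem z
  let Gd : X.Opens := ⟨{x | (h.stalkMap x).hom.Flat}, FlatLocus.isOpen_flat_locus h⟩
  have hcov : ∀ x : X, h x = z → ∃ V : X.affineOpens, x ∈ V.1 ∧ V.1 ≤ h ⁻¹ᵁ O ∧ V.1 ≤ Gd ∧
      ∃ i, V.1 ≤ q ⁻¹ᵁ chart n i := fun x hx => by
    obtain ⟨i, hi⟩ := exists_mem_chart n (q x)
    obtain ⟨_, ⟨V, hV, rfl⟩, hxV, hVle⟩ := X.isBasis_affineOpens.exists_subset_of_mem_open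
      (show x ∈ h ⁻¹ᵁ O ⊓ Gd ⊓ q ⁻¹ᵁ chart n i from ⟨⟨by show h x ∈ O; rw [hx]; exact hzO, hflat x hx⟩, hi⟩)
      (h ⁻¹ᵁ O ⊓ Gd ⊓ q ⁻¹ᵁ chart n i).isOpen
    exact ⟨⟨V, hV⟩, hxV, fun y hy => (hVle hy).1.1, fun y hy => (hVle hy).1.2, i, fun y hy => (hVle hy).2⟩
  choose V hxV hVO hVG i hVi using hcov
  let p := (hO.primeIdealOf ⟨z, hzO⟩).asIdeal
  have hT : ∀ (x : X) (hx : h x = z), ∃ T : Set X, T.Finite ∧ ∀ (c : Γ(X, (V x hx).1)),
      (∀ y ∈ T, ∀ hy : y ∈ (V x hx).1, c ∉ ((V x hx).2.primeIdealOf ⟨y, hy⟩).asIdeal) →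
      letI := (h.appLE O (V x hx).1 (hVO x hx)).hom.toAlgebra
      ∀ (Q : Ideal Γ(X, (V x hx).1)) [Q.IsPrime] [Q.LiesOver p],
        ∀ t, c * t ∈ FlatModel.sat p ⊥ Q.primeCompl → t ∈ FlatModel.sat p ⊥ Q.primeCompl := by
    intro x hx
    letI := (h.appLE O (V x hx).1 (hVO x hx)).hom.toAlgebra
    have hfp : (h.appLE O (V x hx).1 (hVO x hx)).hom.FinitePresentation :=
      h.finitePresentation_appLE hO (V x hx).2 _
    have : Algebra.FinitePresentation Γ(U, O) Γ(X, (V x hx).1) := hfp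
    obtain ⟨T, hTf, hTp, hT⟩ := exists_primes_reg (A := Γ(X, (V x hx).1)) p
    refine ⟨(fun P : PrimeSpectrum Γ(X, (V x hx).1) => (V x hx).2.fromSpec P) '' {P | P.asIdeal ∈ T}, ?_,
      fun c hc Q _ _ => hT c Q fun P hP hcP => ?_⟩
    · exact (hTf.preimage (fun a _ b _ e => PrimeSpectrum.ext e)).image _
    · have hmem : (V x hx).2.fromSpec ⟨P, hTp P hP⟩ ∈ (V x hx).1 := by
        rw [← SetLike.mem_coe, ← (V x hx).2.range_fromSpec]
        exact ⟨_, rfl⟩
      refine hc _ ⟨⟨P, hTp P hP⟩, hP, rfl⟩ hmem ?_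
      have e : (V x hx).2.primeIdealOf ⟨_, hmem⟩ = ⟨P, hTp P hP⟩ := by
        apply (V x hx).2.fromSpec.isOpenEmbedding.injective
        rw [IsAffineOpen.fromSpec_primeIdealOf]
      rw [e]
      exact hcP
  choose T hTf hT using hT
  obtain ⟨b, hb⟩ := (h.isCompact_preimage_singleton z).elim_finite_subcover
    (fun x : {x : X // h x = z} => ((V x.1 x.2).1 : Set X)) (fun x => (V x.1 x.2).1.isOpen)
    (fun x hx => Set.mem_iUnion.2 ⟨⟨x, hx⟩, hxV x hx⟩)
  refine ⟨⋃ x ∈ b, T x.1 x.2, Set.Finite.biUnion b.finite_toSet fun x _ => hTf x.1 x.2,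
    fun f H hH _ hrange hprin havoid x' hx' => ?_⟩
  let a := pullback.fst q hH
  obtain ⟨⟨x, hx⟩, hxb, hxVx⟩ := Set.mem_iUnion₂.1 (hb hx')
  let W := V x hx
  let A := Γ(X, W.1)
  let φ := (h.appLE O W.1 (hVO x hx)).hom
  letI := φ.toAlgebra
  obtain ⟨c, hc⟩ := hprin W (i x hx) (hVi x hx)
  have hmem : ∀ y (hy : y ∈ W.1), y ∈ Set.range a ↔ c ∈ (W.2.primeIdealOf ⟨y, hy⟩).asIdeal := fun y hy => by
    have h1 : Set.range a = (a.ker.support : Set X) := by
      rw [Scheme.Hom.support_ker, a.isClosedEmbedding.isClosed_range.closure_eq]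
    rw [h1, SetLike.mem_coe, Scheme.IdealSheafData.mem_support_iff_of_mem (U := W) hy, hc, Scheme.zeroLocus_span,
      Scheme.zeroLocus_singleton, Set.mem_compl_iff, SetLike.mem_coe,
      GrpdLib.mem_basicOpen_iff_notMem W.2 c ⟨y, hy⟩, not_not]
  let Q := (W.2.primeIdealOf ⟨a x', hxVx⟩).asIdeal
  have hQp : Q.LiesOver p := ⟨by
    show p = Q.comap φ
    have e := IsAffineOpen.comap_primeIdealOf_appLE (f := h) O hO W.1 W.2 (hVO x hx) hxVx
    show (hO.primeIdealOf ⟨z, hzO⟩).asIdeal = _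
    rw [show (⟨z, hzO⟩ : O) = ⟨h (a x'), hVO x hx hxVx⟩ from Subtype.ext hx'.symm]
    exact (congrArg PrimeSpectrum.asIdeal e).symm⟩
  have hflat' : Module.Flat Γ(U, O) A := by
    have hres : Flat (h.resLE O W.1 (hVO x hx)) := by
      refine Flat.of_stalkMap _ fun y => ?_
      have hy : ((W.1.ι ≫ h).stalkMap y).hom.Flat := (FibFlat.flat_stalk_open_comp W.1.ι h y).2 (hVG x hx y.2)
      rw [← Scheme.Hom.resLE_comp_ι h (hVO x hx), Scheme.Hom.stalkMap_comp] at hy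
      exact RingHom.Flat.respectsIso.cancel_left_isIso _ _ |>.1 hy
    have : IsAffine W.1.toScheme := W.2
    have : IsAffine O.toScheme := hO
    have hfl := (HasRingHomProperty.iff_of_isAffine (P := @Flat) (f := h.resLE O W.1 (hVO x hx))).1 hres
    rw [GrpdLib.resLE_appTop'] at hfl
    simp only [CommRingCat.hom_comp] at hfl
    exact RingHom.Flat.respectsIso.cancel_left_isIso _ _ |>.1
      (RingHom.Flat.respectsIso.cancel_right_isIso _ _ |>.1 hfl)
  have hfp : φ.FinitePresentation := h.finitePresentation_appLE hO W.2 _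
  have : Algebra.FinitePresentation Γ(U, O) A := hfp
  obtain ⟨g, hgQ, hg⟩ := AlgSpDec.Slice.exists_flat_quotient c p Q ((hmem (a x') hxVx).1 ⟨x', rfl⟩)
    (hT x hx c (fun y hy hyV hcy => by
      have h1 : y ∈ Set.range a := (hmem y hyV).2 hcy
      rw [hrange] at h1
      exact h1 (havoid y (Set.mem_biUnion hxb hy))) Q)
  let W' : X.Opens := X.basicOpen g
  have hW' : IsAffineOpen W' := W.2.basicOpen g
  have hW'le : W' ≤ W.1 := X.basicOpen_le g
  have : IsAffine W'.toScheme := hW'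
  have : IsAffine O.toScheme := hO
  have : IsAffine (a ⁻¹ᵁ W').toScheme := hW'.preimage a
  let ρ : Γ(X, W.1) →+* Γ(X, W') := (X.presheaf.map (homOfLE hW'le).op).hom
  letI : Algebra A Γ(X, W') := ρ.toAlgebra
  letI : Algebra Γ(U, O) Γ(X, W') := (ρ.comp φ).toAlgebra
  haveI : IsScalarTower Γ(U, O) A Γ(X, W') := IsScalarTower.of_algebraMap_eq fun _ => rfl
  haveI : IsLocalization.Away g Γ(X, W') := W.2.isLocalization_basicOpen g
  have hflq : Module.Flat Γ(U, O) (Γ(X, W') ⧸ Ideal.span {ρ c}) := hg Γ(X, W')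
  let ψ : Γ(X, W') →+* Γ(pullback q hH, a ⁻¹ᵁ W') := (a.app W').hom
  have hψs : Function.Surjective ψ := a.app_surjective W' hW'
  have hψk : RingHom.ker ψ = Ideal.span {ρ c} := by
    rw [← Scheme.Hom.ker_apply a ⟨W', hW'⟩, ← a.ker.map_ideal (show (⟨W', hW'⟩ : X.affineOpens) ≤ W from hW'le),
      hc, Ideal.map_span, Set.image_singleton]
    rfl
  have hfl : (ψ.comp (ρ.comp φ)).Flat := by
    let ε := (Ideal.quotEquivOfEq hψk.symm).trans (RingHom.quotientKerEquivOfSurjective hψs)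
    have e : ψ.comp (ρ.comp φ) = ε.toRingHom.comp (algebraMap Γ(U, O) (Γ(X, W') ⧸ Ideal.span {ρ c})) :=
      RingHom.ext fun r => by
        show ψ (ρ (φ r)) = ε (Ideal.Quotient.mk _ (ρ (φ r)))
        simp [ε]
    rw [e]
    exact (RingHom.flat_algebraMap_iff.2 hflq).comp (RingHom.Flat.of_bijective ε.bijective)
  have hle : a ⁻¹ᵁ W' ≤ (a ≫ h) ⁻¹ᵁ O := fun y hy => hVO x hx (hW'le hy)
  have happ : ((a ≫ h).appLE O (a ⁻¹ᵁ W') hle).hom = ψ.comp (ρ.comp φ) := by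
    have h1 : (a ≫ h).appLE O (a ⁻¹ᵁ W') hle =
        h.appLE O W.1 (hVO x hx) ≫ X.presheaf.map (homOfLE hW'le).op ≫ a.app W' := by
      rw [Scheme.Hom.app_eq_appLE, ← Category.assoc, Scheme.Hom.appLE_map, Scheme.Hom.appLE_comp_appLE]
    rw [h1]
    rfl
  have hres : Flat ((a ≫ h).resLE O (a ⁻¹ᵁ W') hle) := by
    rw [HasRingHomProperty.iff_of_isAffine (P := @Flat), GrpdLib.resLE_appTop']
    simp only [CommRingCat.hom_comp]
    exact (RingHom.Flat.respectsIso.cancel_left_isIso _ _).2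
      ((RingHom.Flat.respectsIso.cancel_right_isIso _ _).2 (happ ▸ hfl))
  have hx'W : x' ∈ a ⁻¹ᵁ W' := (GrpdLib.mem_basicOpen_iff_notMem W.2 g ⟨a x', hxVx⟩).2 hgQ
  haveI : Flat ((a ⁻¹ᵁ W').ι ≫ (a ≫ h)) := by
    rw [← Scheme.Hom.resLE_comp_ι (a ≫ h) hle]
    infer_instance
  exact (FibFlat.flat_stalk_open_comp (a ⁻¹ᵁ W').ι (a ≫ h) ⟨x', hx'W⟩).1 (Flat.stalkMap _ _)

end Groth.Agent.GrpQLib
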