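import Groth.Agent.GrpQLib.Slice
import Groth.Agent.GrpdLib.OrbitTop
import Groth.Agent.MorLib.GenFinite
import Groth.Agent.EtFound.Descent
import Groth.Agent.AlgSpDec.SliceCover

/-!
# A slice which is finite locally free over a dense saturated open
-/

set_option backward.isDefEq.respectTransparency false
set_option backward.isDefEq.respectTransparency.types false

universe u

open CategoryTheory CategoryTheory.Limits AlgebraicGeometry Grpd TopologicalSpace MorphismProperty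

noncomputable section

namespace Groth.Agent.GrpQLib

open GrpdLib

/-- Restriction of a cartesian square to opens. -/
theorem isPullback_restrict {A X Y Z : Scheme.{u}} {fst : A ⟶ X} {snd : A ⟶ Y} {f : X ⟶ Z} {g : Y ⟶ Z}
    (sq : IsPullback fst snd f g) (W : Z.Opens) (O : Y.Opens) (e : O ≤ g ⁻¹ᵁ W) :
    ∃ l : (snd ⁻¹ᵁ O).toScheme ⟶ (f ⁻¹ᵁ W).toScheme, IsPullback l (snd ∣_ O) (f ∣_ W) (g.resLE W O e) := by
  have h1 : IsPullback ((snd ⁻¹ᵁ O).ι ≫ fst) (snd ∣_ O) f (O.ι ≫ g) :=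
    (isPullback_morphismRestrict snd O).flip.paste_horiz sq
  have hl : Set.range ((snd ⁻¹ᵁ O).ι ≫ fst) ⊆ Set.range (f ⁻¹ᵁ W).ι := by
    rintro _ ⟨a, rfl⟩
    rw [Scheme.Opens.range_ι]
    show f (((snd ⁻¹ᵁ O).ι ≫ fst) a) ∈ W
    rw [← Scheme.Hom.comp_apply, h1.w, ← Category.assoc, Scheme.Hom.comp_apply]
    exact e (((snd ∣_ O) a).2)
  refine ⟨IsOpenImmersion.lift (f ⁻¹ᵁ W).ι _ hl, IsPullback.of_right (h₁₂ := (f ⁻¹ᵁ W).ι) (h₂₂ := W.ι)
    (v₁₂ := f ∣_ W) (v₁₃ := f) ?_ ?_ (isPullback_morphismRestrict f W).flip⟩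
  · rw [IsOpenImmersion.lift_fac, Scheme.Hom.resLE_comp_ι]
    exact h1
  · rw [← cancel_mono W.ι, Category.assoc, morphismRestrict_ι, IsOpenImmersion.lift_fac_assoc, Category.assoc,
      Category.assoc (snd ∣_ O), Scheme.Hom.resLE_comp_ι, morphismRestrict_ι_assoc, sq.w]

variable {S : Scheme.{u}} (G : GroupoidScheme S)

theorem flat_t [Flat G.s] : Flat G.t := by
  haveI : IsIso G.i := ⟨G.i, GrpdLib.i_i G, GrpdLib.i_i G⟩
  rw [← G.i_s]; infer_instance

theorem lfp_t [LocallyOfFinitePresentation G.s] : LocallyOfFinitePresentation G.t := by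
  haveI : IsIso G.i := ⟨G.i, GrpdLib.i_i G, GrpdLib.i_i G⟩
  rw [← G.i_s]; infer_instance

theorem qc_t [QuasiCompact G.s] : QuasiCompact G.t := by
  haveI : IsIso G.i := ⟨G.i, GrpdLib.i_i G, GrpdLib.i_i G⟩
  rw [← G.i_s]; infer_instance

/-- A slice through a closed point of an affine open, flat and quasi-finite everywhere. -/
theorem exists_good_slice [Flat G.s] [LocallyOfFinitePresentation G.s] [LocallyQuasiFinite G.j]
    (V : G.U.Opens) (hV : IsAffineOpen V) (B : S.Opens) (hB : IsAffineOpen B)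
    (hVB : V ≤ G.pU ⁻¹ᵁ B) (u : G.U) (huV : u ∈ V) (hu : IsClosed ({⟨u, huV⟩} : Set ↥V)) :
    ∃ (Z : Scheme.{u}) (_ : IsAffine Z) (g : Z ⟶ G.U), u ∈ Set.range (srcMap G g) ∧ Flat (srcMap G g) ∧
      LocallyQuasiFinite (srcMap G g) ∧ LocallyOfFinitePresentation (srcMap G g) := by
  haveI := flat_t G
  haveI := lfp_t G
  obtain ⟨Z, _, g, p, hg, hpu, hflat, hqf⟩ := exists_slice_at G V hV B hB hVB u huV hu
  let h := srcMap G g
  let f := pullback.snd G.t g
  have hh : LocallyOfFinitePresentation h := by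
    haveI : LocallyOfFinitePresentation (pullback.fst G.t g) := MorphismProperty.pullback_fst _ _ hg
    exact inferInstanceAs (LocallyOfFinitePresentation (pullback.fst G.t g ≫ G.s))
  have : LocallyOfFiniteType h := inferInstance
  let Gd : (pullback G.t g).Opens := ⟨{x | (h.stalkMap x).hom.Flat ∧ h.QuasiFiniteAt x},
    (FlatLocus.isOpen_flat_locus h).inter (Scheme.Hom.isOpen_quasiFiniteAt h)⟩
  let Z₀ : Z.Opens := ⟨f '' Gd, f.isOpenMap _ Gd.2⟩
  obtain ⟨Z₁, hZ₁, hpZ, hZle⟩ := exists_isAffineOpen_mem_and_subset (U := Z₀) (x := f p) ⟨p, ⟨hflat, hqf⟩, rfl⟩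
  let g₁ := Z₁.ι ≫ g
  let κ : pullback G.t g₁ ⟶ pullback G.t g :=
    pullback.lift (pullback.fst G.t g₁) (pullback.snd G.t g₁ ≫ Z₁.ι) (by rw [Category.assoc]; exact pullback.condition)
  have hκ : IsPullback κ (pullback.snd G.t g₁) f Z₁.ι :=
    IsPullback.of_right (by rw [pullback.lift_fst]; exact IsPullback.of_hasPullback G.t g₁) (pullback.lift_snd _ _ _)
      (IsPullback.of_hasPullback G.t g)
  haveI : IsOpenImmersion κ := MorphismProperty.of_isPullback (P := @IsOpenImmersion) hκ.flip inferInstance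
  have heq : srcMap G g₁ = κ ≫ h := by simp only [h, κ, srcMap, pullback.lift_fst_assoc]
  have hgood : ∀ w, (h.stalkMap (κ w)).hom.Flat ∧ h.QuasiFiniteAt (κ w) := by
    intro w
    have hw : f (κ w) ∈ Z₀ := by
      rw [← Scheme.Hom.comp_apply, hκ.w, Scheme.Hom.comp_apply]
      exact hZle ((pullback.snd G.t g₁ w).2)
    obtain ⟨x, hx, hxw⟩ := hw
    exact good_invariant G g hxw hx
  refine ⟨Z₁, hZ₁, g₁, ?_, ?_, ?_, ?_⟩
  · obtain ⟨w, hw1, -⟩ := Scheme.exists_preimage_of_isPullback hκ p ⟨f p, hpZ⟩ rfl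
    refine ⟨w, ?_⟩
    rw [heq, Scheme.Hom.comp_apply, hw1]
    exact hpu
  · rw [heq]
    exact Flat.of_stalkMap _ fun w => (FibFlat.flat_stalk_open_comp κ h w).2 (hgood w).1
  · rw [heq]
    have hr : Set.range κ ⊆ Set.range h.quasiFiniteLocus.ι := by
      rintro _ ⟨w, rfl⟩
      rw [Scheme.Opens.range_ι]
      exact (hgood w).2
    rw [← IsOpenImmersion.lift_fac h.quasiFiniteLocus.ι κ hr, Category.assoc]
    infer_instance
  · rw [heq]
    infer_instance

/-- Slices combine. -/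
theorem exists_sigma_slice {ι : Type u} [Finite ι] (Z : ι → Scheme.{u}) [∀ i, IsAffine (Z i)]
    (g : ∀ i, Z i ⟶ G.U) (P : MorphismProperty Scheme.{u}) [IsZariskiLocalAtSource P] :
    ∃ (Z' : Scheme.{u}) (_ : IsAffine Z') (g' : Z' ⟶ G.U),
      ((∀ i, P (srcMap G (g i))) → P (srcMap G g')) ∧
      ∀ i, Set.range (srcMap G (g i)) ⊆ Set.range (srcMap G g') := by
  let g' : (∐ Z) ⟶ G.U := Sigma.desc g
  have key : ∀ i, ∃ (κ : pullback G.t (g i) ⟶ pullback G.t g'),
      IsPullback κ (pullback.snd G.t (g i)) (pullback.snd G.t g') (Sigma.ι Z i) ∧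
      κ ≫ srcMap G g' = srcMap G (g i) := by
    intro i
    refine ⟨pullback.lift (pullback.fst G.t (g i)) (pullback.snd G.t (g i) ≫ Sigma.ι Z i)
      (by rw [Category.assoc, Sigma.ι_desc]; exact pullback.condition), ?_, ?_⟩
    · refine IsPullback.of_right ?_ (pullback.lift_snd _ _ _) (IsPullback.of_hasPullback G.t g')
      rw [pullback.lift_fst, Sigma.ι_desc]
      exact IsPullback.of_hasPullback G.t (g i)
    · simp only [srcMap, pullback.lift_fst_assoc]
  refine ⟨∐ Z, inferInstance, g', fun h => ?_, fun i => ?_⟩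
  · refine (IsZariskiLocalAtSource.iff_of_openCover (P := P)
      ((sigmaOpenCover Z).pullback₁ (pullback.snd G.t g'))).2 fun i => ?_
    obtain ⟨κ, hκ, hκ'⟩ := key i
    show P (pullback.fst (pullback.snd G.t g') (Sigma.ι Z i) ≫ srcMap G g')
    rw [← hκ.isoPullback_inv_fst, Category.assoc, hκ', cancel_left_of_respectsIso P]
    exact h i
  · obtain ⟨κ, -, hκ'⟩ := key i
    rintro _ ⟨x, rfl⟩
    exact ⟨κ x, by rw [← Scheme.Hom.comp_apply, hκ']⟩

variable [IsNoetherian G.U] [IsLocallyNoetherian S] [Flat G.s] [LocallyOfFinitePresentation G.s] [QuasiCompact G.s]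
  [LocallyQuasiFinite G.j]

omit [Flat G.s] [LocallyOfFinitePresentation G.s] [QuasiCompact G.s] [LocallyQuasiFinite G.j]
  [IsLocallyNoetherian S] in
theorem finite_genericPoints : (genericPoints G.U).Finite :=
  haveI := (NoetherianSpace.finite_irreducibleComponents (α := G.U)).to_subtype
  Set.finite_coe_iff.1 (Finite.of_injective _ (genericPoints.component_injective (α := G.U)) :
    Finite (genericPoints G.U))

/-- A slice meeting the orbit of every generic point. -/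
theorem exists_slice_generic : ∃ (Z : Scheme.{u}) (_ : IsAffine Z) (g : Z ⟶ G.U),
    Flat (srcMap G g) ∧ LocallyQuasiFinite (srcMap G g) ∧ LocallyOfFinitePresentation (srcMap G g) ∧
      genericPoints G.U ⊆ Set.range (srcMap G g) := by
  classical
  haveI : Finite (genericPoints G.U) := (finite_genericPoints G).to_subtype
  have hex : ∀ η : genericPoints G.U, ∃ (Z : Scheme.{u}) (_ : IsAffine Z) (g : Z ⟶ G.U),
      η.1 ∈ Set.range (srcMap G g) ∧ Flat (srcMap G g) ∧
      LocallyQuasiFinite (srcMap G g) ∧ LocallyOfFinitePresentation (srcMap G g) := by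
    intro η
    obtain ⟨B, hB, hηB, -⟩ := exists_isAffineOpen_mem_and_subset (U := (⊤ : S.Opens)) (x := G.pU η.1) trivial
    obtain ⟨V, hV, hηV, hVB⟩ := exists_isAffineOpen_mem_and_subset (U := G.pU ⁻¹ᵁ B) (x := η.1) hηB
    haveI : IsAffine V.toScheme := hV
    haveI : CompactSpace ↥V := isCompact_iff_compactSpace.1 hV.isCompact
    let η' : ↥V := ⟨η.1, hηV⟩
    obtain ⟨v, hv, hvc⟩ := IsClosed.exists_closed_singleton (S := closure ({η'} : Set ↥V)) isClosed_closure
      ⟨η', subset_closure rfl⟩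
    obtain ⟨Z, hZ, g, hg, h1, h2, h3⟩ := exists_good_slice G V hV B hB hVB v.1 v.2 hvc
    refine ⟨Z, hZ, g, ?_, h1, h2, h3⟩
    haveI := h1; haveI := h3
    exact ((specializes_iff_mem_closure.2 hv).map continuous_subtype_val).mem_open (srcMap G g).isOpenMap.isOpen_range hg
  choose Z hZ g hg h1 h2 h3 using hex
  haveI := hZ
  let P : MorphismProperty Scheme.{u} := @Flat ⊓ @LocallyQuasiFinite ⊓ @LocallyOfFinitePresentation
  obtain ⟨Z', hZ', g', hP, hr⟩ := exists_sigma_slice G Z g P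
  obtain ⟨⟨a, b⟩, c⟩ := hP fun η => ⟨⟨h1 η, h2 η⟩, h3 η⟩
  exact ⟨Z', hZ', g', a, b, c, fun η hη => hr ⟨η, hη⟩ (hg ⟨η, hη⟩)⟩

/-- A slice whose map is finite locally free and surjective over a dense saturated open. -/
theorem exists_finite_slice : ∃ (W : G.U.Opens) (_ : G.t ⁻¹ᵁ W = G.s ⁻¹ᵁ W) (Z : Scheme.{u}) (_ : IsAffine Z)
    (g : Z ⟶ G.U), Dense (W : Set G.U) ∧ IsFinite (srcMap G g ∣_ W) ∧ Flat (srcMap G g ∣_ W) ∧
      LocallyOfFinitePresentation (srcMap G g ∣_ W) ∧ Surjective (srcMap G g ∣_ W) := by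
  haveI := flat_t G
  haveI := lfp_t G
  haveI := qc_t G
  obtain ⟨Z, hZ, g, hflat, hlqf, hlfp, hgen⟩ := exists_slice_generic G
  haveI := hflat; haveI := hlqf; haveI := hlfp; haveI := hZ
  let h := srcMap G g
  haveI : CompactSpace ↥(pullback G.t g) := QuasiCompact.compactSpace_of_compactSpace (pullback.snd G.t g)
  haveI : QuasiCompact h := inferInstance
  haveI : IsLocallyNoetherian (pullback G.t g) := LocallyOfFiniteType.isLocallyNoetherian h
  haveI : QuasiSeparated h := inferInstance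
  have hfib : ∀ η, (h ⁻¹' {η}).Finite := fun η => h.finite_preimage_singleton η
  let Rg : G.U.Opens := ⟨Set.range h, h.isOpenMap.isOpen_range⟩
  choose Vη _ hηV hle hfinη using fun η : genericPoints G.U => MorLib.GenFinite.exists_isFinite h η.2 (hfib η.1)
    (fun x hx => MorLib.GenFinite.exists_open_of_finite_fibre h (hfib η.1) x hx)
    (fun V₀ hV₀ hη₀ U₁ U₂ h₁ h₂ e₁ e₂ hne =>
      MorLib.GenFinite.exists_avoid_inf h η.2 hV₀ hη₀ h₁ h₂ e₁ e₂ hne)
    Rg (hgen η.2)
  let V₁ : G.U.Opens := ⨆ η, Vη η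
  have hV₁ : IsFinite (h ∣_ V₁) := MorLib.GenFinite.isFinite_iSup h Vη hfinη
  have hV₁R : V₁ ≤ Rg := iSup_le hle
  let W : G.U.Opens := ⟨sat G V₁, G.t.isOpenMap _ (V₁.isOpen.preimage G.s.continuous)⟩
  have hWt : G.t ⁻¹ᵁ W = G.s ⁻¹ᵁ W := Opens.ext (preimage_sat G V₁).symm
  let O : G.R.Opens := G.s ⁻¹ᵁ V₁
  have hOt : O ≤ G.t ⁻¹ᵁ W := fun r hr => ⟨r, hr, rfl⟩
  refine ⟨W, hWt, Z, hZ, g, ?_, ?_, IsZariskiLocalAtTarget.restrict hflat W,
    IsZariskiLocalAtTarget.restrict hlfp W, ⟨fun y => ?_⟩⟩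
  · rw [dense_iff_inter_open]
    intro O' hO' hne
    obtain ⟨x, hx⟩ := hne
    obtain ⟨η, hη, hηx⟩ := MorLib.Birat.exists_generic x
    exact ⟨η, hηx.mem_open hO' hx, subset_sat G _ (Opens.mem_iSup.2 ⟨⟨η, hη⟩, hηV _⟩)⟩
  · obtain ⟨ls, hls⟩ := isPullback_restrict (isPullback_transl_s G g) V₁ O le_rfl
    obtain ⟨lt, hlt⟩ := isPullback_restrict (isPullback_transl_t G g) W O hOt
    haveI hfin : IsFinite (transl G g ∣_ O) := MorphismProperty.of_isPullback hls hV₁
    haveI : Flat (G.t.resLE W O hOt) := by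
      rw [Scheme.Hom.resLE]; infer_instance
    have hcs : Surjective (G.t.resLE W O hOt) := ⟨fun w => by
      obtain ⟨r, hr, hrw⟩ := w.2
      exact ⟨⟨r, hr⟩, W.ι.isOpenEmbedding.injective (by
        rw [← Scheme.Hom.comp_apply, Scheme.Hom.resLE_comp_ι]; exact hrw)⟩⟩
    haveI : IsLocallyNoetherian G.R := LocallyOfFiniteType.isLocallyNoetherian G.s
    haveI : CompactSpace G.R := QuasiCompact.compactSpace_of_compactSpace G.s
    haveI : IsNoetherian G.R := ⟨⟩
    haveI : CompactSpace O.toScheme := isCompact_iff_compactSpace.1 (NoetherianSpace.isCompact _)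
    haveI : QuasiCompact (G.t.resLE W O hOt) := inferInstance
    haveI := EtFound.fpqc_isFinite.{u}
    exact MorphismProperty.of_isPullback_of_descendsAlong (P := @IsFinite)
      (Q := (@Surjective ⊓ @Flat ⊓ @QuasiCompact : MorphismProperty Scheme.{u}))
      hlt.flip ⟨⟨hcs, inferInstance⟩, inferInstance⟩ hfin
  · obtain ⟨r, hr, hry⟩ := y.2
    obtain ⟨v, hv⟩ := hV₁R hr
    obtain ⟨w, hw1, hw2⟩ := Scheme.exists_preimage_of_isPullback (isPullback_transl_s G g) v r hv
    refine ⟨⟨pullback.fst (pullback.snd G.t g) (pullback.snd G.t g) w, ?_⟩, W.ι.isOpenEmbedding.injective ?_⟩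
    · show h (pullback.fst (pullback.snd G.t g) (pullback.snd G.t g) w) ∈ W
      rw [← Scheme.Hom.comp_apply, ← transl_t, Scheme.Hom.comp_apply, hw2, hry]
      exact y.2
    · rw [← Scheme.Hom.comp_apply, morphismRestrict_ι, Scheme.Hom.comp_apply]
      show h (pullback.fst (pullback.snd G.t g) (pullback.snd G.t g) w) = y.1
      rw [← Scheme.Hom.comp_apply, ← transl_t, Scheme.Hom.comp_apply, hw2, hry]

end Groth.Agent.GrpQLib
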