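import Groth.Agent.GrpQLib.LocQ

/-!
# Gluing local quotients over saturated opens
-/

set_option backward.isDefEq.respectTransparency false
set_option backward.isDefEq.respectTransparency.types false

universe u

open CategoryTheory CategoryTheory.Limits AlgebraicGeometry Grpd TopologicalSpace

noncomputable section

namespace Groth.Agent.GrpQLib

open GrpdLib

variable {S : Scheme.{u}} (G : GroupoidScheme S)

/-- The saturated open has a quotient which is universal locally on the quotient. -/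
def HasQuot (W : G.U.Opens) : Prop :=
  ∃ (hW : IsInv G W) (Y : Scheme.{u}) (π : W.toScheme ⟶ Y), IsLocQuot (resS G W) (resT G W hW) π

variable {G} in
theorem HasQuot.mono {W W' : G.U.Opens} (h : HasQuot G W) (hle : W' ≤ W) (hW' : IsInv G W') : HasQuot G W' := by
  obtain ⟨hW, Y, π, hπ⟩ := h
  have hval : ∀ u : W'.toScheme, (G.U.homOfLE hle u).1 = u.1 := fun u => by
    exact congrArg (fun φ => φ u) (Scheme.homOfLE_ι G.U hle)
  have horb : ∀ x y : W.toScheme, π x = π y → x.1 ∈ W' → y.1 ∈ W' := by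
    intro x y e hx
    obtain ⟨r, hrx, hry⟩ := hπ.orbit x y e
    have h1 : G.t r.1 = x.1 := by rw [← hrx]; exact (congrArg (fun φ => φ r) (resT_ι G W hW)).symm
    have h2 : G.s r.1 = y.1 := by rw [← hry]; exact (congrArg (fun φ => φ r) (resS_ι G W)).symm
    rw [← h2]
    exact (hW'.mem_iff r.1).2 (by rw [h1]; exact hx)
  let O : Y.Opens := ⟨π '' (W.ι ⁻¹ᵁ W' : W.toScheme.Opens), hπ.isOpen_of_preimage (by
    rw [show π ⁻¹' (π '' (W.ι ⁻¹ᵁ W' : W.toScheme.Opens)) = (W.ι ⁻¹ᵁ W' : W.toScheme.Opens) from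
      Set.Subset.antisymm (fun y ⟨x, hx, e⟩ => horb x y e hx) (Set.subset_preimage_image _ _)]
    exact (W.ι ⁻¹ᵁ W').isOpen)⟩
  let κ := G.U.homOfLE hle
  let π' : W'.toScheme ⟶ O.toScheme := IsOpenImmersion.lift O.ι (κ ≫ π) (by
    rintro _ ⟨z, rfl⟩
    rw [Scheme.Opens.range_ι]
    exact ⟨κ z, (by show (κ z).1 ∈ W'; rw [hval]; exact z.2), rfl⟩)
  have hsq : κ ≫ π = π' ≫ O.ι := (IsOpenImmersion.lift_fac ..).symm
  have happ : ∀ z, π (κ z) = O.ι (π' z) := fun z => by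
    rw [← Scheme.Hom.comp_apply, ← Scheme.Hom.comp_apply, hsq]
  have hrange : π ⁻¹' Set.range O.ι = Set.range κ := by
    ext x
    rw [Set.mem_preimage, Scheme.Opens.range_ι]
    refine ⟨fun ⟨w, hw, e⟩ => ⟨⟨x.1, horb w x e hw⟩, Subtype.ext (hval _)⟩, ?_⟩
    rintro ⟨z, rfl⟩
    exact ⟨κ z, (by show (κ z).1 ∈ W'; rw [hval]; exact z.2), rfl⟩
  let ρ := G.R.homOfLE (G.s.preimage_mono hle)
  have hs : ρ ≫ resS G W = resS G W' ≫ κ := by
    rw [← cancel_mono W.ι, Category.assoc, Category.assoc, resS_ι, Scheme.homOfLE_ι_assoc, Scheme.homOfLE_ι, resS_ι]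
  have ht : ρ ≫ resT G W hW = resT G W' hW' ≫ κ := by
    rw [← cancel_mono W.ι, Category.assoc, Category.assoc, resT_ι, Scheme.homOfLE_ι_assoc, Scheme.homOfLE_ι, resT_ι]
  refine ⟨hW', O.toScheme, π', ⟨?_, fun y => ?_, fun A hA => ?_, fun x y e => ?_, fun O₁ y hy => ?_⟩⟩
  · rw [← cancel_mono O.ι, Category.assoc, Category.assoc, ← hsq, ← reassoc_of% ht, ← reassoc_of% hs, hπ.w]
  · obtain ⟨x, hx⟩ := hπ.surj y.1
    obtain ⟨z, rfl⟩ := hrange.le (show x ∈ π ⁻¹' Set.range O.ι from ⟨y, hx.symm⟩)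
    exact ⟨z, O.ι.isOpenEmbedding.injective ((happ z).symm.trans hx)⟩
  · obtain ⟨C, hC, rfl⟩ := κ.isOpenEmbedding.toIsInducing.isClosed_iff.1 hA
    have e : π' '' (κ ⁻¹' C) = O.ι ⁻¹' (π '' C) := by
      ext y
      constructor
      · rintro ⟨z, hz, rfl⟩
        exact ⟨κ z, hz, happ z⟩
      · rintro ⟨c, hc, e⟩
        obtain ⟨z, rfl⟩ := hrange.le (show c ∈ π ⁻¹' Set.range O.ι from ⟨y, e.symm⟩)
        exact ⟨z, hc, O.ι.isOpenEmbedding.injective ((happ z).symm.trans e)⟩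
    rw [e]
    exact (hπ.closedMap _ hC).preimage O.ι.continuous
  · obtain ⟨r, hrx, hry⟩ := hπ.orbit (κ x) (κ y) (by rw [happ, happ, e])
    have h2 : G.s r.1 = y.1 := by
      rw [← hval y]
      exact (congrArg (fun φ => φ r) (resS_ι G W)).symm.trans (congrArg W.ι hry)
    have hr : r.1 ∈ G.s ⁻¹ᵁ W' := by show G.s r.1 ∈ W'; rw [h2]; exact y.2
    have hρ : ρ ⟨r.1, hr⟩ = r := Subtype.ext (by
      exact congrArg (fun φ => φ (⟨r.1, hr⟩ : (G.s ⁻¹ᵁ W').toScheme)) (Scheme.homOfLE_ι G.R (G.s.preimage_mono hle)))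
    refine ⟨⟨r.1, hr⟩, κ.isOpenEmbedding.injective ?_, κ.isOpenEmbedding.injective ?_⟩
    · rw [← Scheme.Hom.comp_apply, ← ht, Scheme.Hom.comp_apply, hρ]; exact hrx
    · rw [← Scheme.Hom.comp_apply, ← hs, Scheme.Hom.comp_apply, hρ]; exact hry
  · obtain ⟨O', hO', hyO', hfac⟩ := hπ.basis (O.ι ''ᵁ O₁) y.1 ⟨y, hy, rfl⟩
    have hle' : O' ≤ O := fun z hz => by obtain ⟨w, -, rfl⟩ := hO' hz; exact w.2
    have himg : O.ι ''ᵁ (O.ι ⁻¹ᵁ O') = O' := by
      rw [Scheme.Hom.image_preimage_eq_opensRange_inf, Scheme.Opens.opensRange_ι, inf_eq_right.2 hle']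
    refine ⟨O.ι ⁻¹ᵁ O', fun z hz => ?_, hyO', fac_of_image κ O.ι ρ hsq hrange hs ht (fun T r b hb => ?_) _ ?_⟩
    · obtain ⟨w, hw, e⟩ := hO' hz
      rw [← O.ι.isOpenEmbedding.injective e]
      exact hw
    · have hr : Set.range (r ≫ (G.s ⁻¹ᵁ W).ι) ⊆ Set.range (G.s ⁻¹ᵁ W').ι := by
        rintro _ ⟨z, rfl⟩
        rw [Scheme.Opens.range_ι]
        show G.s _ ∈ W'
        rw [← Scheme.Hom.comp_apply, Category.assoc, ← resS_ι, ← reassoc_of% hb, Scheme.homOfLE_ι,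
          Scheme.Hom.comp_apply]
        exact (b z).2
      refine ⟨IsOpenImmersion.lift (G.s ⁻¹ᵁ W').ι _ hr, ?_⟩
      rw [← cancel_mono (G.s ⁻¹ᵁ W).ι, Category.assoc, Scheme.homOfLE_ι, IsOpenImmersion.lift_fac]
    · rw [himg]
      exact hfac

/-- The saturated opens with a quotient. -/
abbrev QIdx : Type u := {W : G.U.Opens // HasQuot G W}

namespace QIdx

variable {G} (j : QIdx G)

theorem inv : IsInv G j.1 := j.2.choose

/-- The chosen quotient. -/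
def M : Scheme.{u} := j.2.choose_spec.choose

/-- The chosen quotient map. -/
def π : j.1.toScheme ⟶ j.M := j.2.choose_spec.choose_spec.choose

theorem isLocQuot : IsLocQuot (resS G j.1) (resT G j.1 j.inv) j.π := j.2.choose_spec.choose_spec.choose_spec

theorem hom_ext {T : Scheme.{u}} {g₁ g₂ : j.M ⟶ T} (h : j.π ≫ g₁ = j.π ≫ g₂) : g₁ = g₂ :=
  ((isLocQuot j).existsUnique_desc_top (j.π ≫ g₂) (by rw [reassoc_of% (isLocQuot j).w])).unique h rfl

variable {j} {j' : QIdx G} (h : j ≤ j')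

theorem res_homOfLE (h : j ≤ j') :
    resS G j.1 ≫ G.U.homOfLE h = G.R.homOfLE (G.s.preimage_mono h) ≫ resS G j'.1 ∧
      resT G j.1 j.inv ≫ G.U.homOfLE h = G.R.homOfLE (G.s.preimage_mono h) ≫ resT G j'.1 j'.inv := by
  constructor <;> rw [← cancel_mono j'.1.ι, Category.assoc, Category.assoc, Scheme.homOfLE_ι]
  · rw [resS_ι, resS_ι, Scheme.homOfLE_ι_assoc]
  · rw [resT_ι, resT_ι, Scheme.homOfLE_ι_assoc]

theorem exists_trans : ∃ g : j.M ⟶ j'.M, j.π ≫ g = G.U.homOfLE h ≫ j'.π := by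
  obtain ⟨g, hg, -⟩ := (isLocQuot j).existsUnique_desc_top (G.U.homOfLE h ≫ j'.π) (by
    rw [reassoc_of% (res_homOfLE h).1, reassoc_of% (res_homOfLE h).2, (isLocQuot j').w])
  exact ⟨g, hg⟩

/-- The transition map. -/
def trans : j.M ⟶ j'.M := (exists_trans h).choose

theorem π_trans : j.π ≫ trans h = G.U.homOfLE h ≫ j'.π := (exists_trans h).choose_spec

theorem range_trans : Set.range (trans h) = j'.π '' ((j'.1.ι ⁻¹ᵁ j.1 : j'.1.toScheme.Opens) : Set j'.1.toScheme) := by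
  ext z
  constructor
  · rintro ⟨m, rfl⟩
    obtain ⟨w, rfl⟩ := (isLocQuot j).surj m
    refine ⟨G.U.homOfLE h w, ?_, ?_⟩
    · show j'.1.ι (G.U.homOfLE h w) ∈ j.1
      rw [← Scheme.Hom.comp_apply, Scheme.homOfLE_ι]
      exact w.2
    · rw [← Scheme.Hom.comp_apply, ← π_trans, Scheme.Hom.comp_apply]
  · rintro ⟨x, hx, rfl⟩
    refine ⟨j.π ⟨x.1, hx⟩, ?_⟩
    rw [← Scheme.Hom.comp_apply, π_trans, Scheme.Hom.comp_apply]
    congr 1
    apply j'.1.ι.isOpenEmbedding.injective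
    rw [← Scheme.Hom.comp_apply, Scheme.homOfLE_ι]
    rfl

theorem mem_of_π_eq {x y : j'.1.toScheme} (e : j'.π x = j'.π y) (hy : y.1 ∈ j.1) : x.1 ∈ j.1 := by
  obtain ⟨r, hrx, hry⟩ := (isLocQuot j').orbit x y e
  have h1 : G.s r.1 = y.1 := by
    rw [← hry]
    exact (congrArg (fun φ => φ r) (resS_ι G j'.1)).symm
  have h2 : G.t r.1 = x.1 := by
    rw [← hrx]
    exact (congrArg (fun φ => φ r) (resT_ι G j'.1 j'.inv)).symm
  rw [← h2]
  exact (j.inv.mem_iff r.1).1 (by rw [h1]; exact hy)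

theorem preimage_range_trans : j'.π ⁻¹' Set.range (trans h) = {x | x.1 ∈ j.1} := by
  rw [range_trans]
  ext x
  exact ⟨fun ⟨y, hy, e⟩ => mem_of_π_eq e.symm hy, fun hx => ⟨x, hx, rfl⟩⟩

theorem isOpenImmersion_trans : IsOpenImmersion (trans h) := by
  have hpre := preimage_range_trans h
  let O : j'.M.Opens := ⟨Set.range (trans h), (isLocQuot j').isOpen_of_preimage (by
    rw [hpre]; exact j.1.isOpen.preimage j'.1.ι.continuous)⟩
  let e : (j'.π ⁻¹ᵁ O).toScheme ⟶ j.1.toScheme := IsOpenImmersion.lift j.1.ι ((j'.π ⁻¹ᵁ O).ι ≫ j'.1.ι) (by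
    rintro _ ⟨z, rfl⟩
    rw [Scheme.Opens.range_ι]
    exact hpre.le z.2)
  let d : j.1.toScheme ⟶ (j'.π ⁻¹ᵁ O).toScheme := IsOpenImmersion.lift (j'.π ⁻¹ᵁ O).ι (G.U.homOfLE h) (by
    rintro _ ⟨z, rfl⟩
    rw [Scheme.Opens.range_ι]
    refine hpre.ge ?_
    show j'.1.ι (G.U.homOfLE h z) ∈ j.1
    rw [← Scheme.Hom.comp_apply, Scheme.homOfLE_ι]
    exact z.2)
  have hde : d ≫ e = 𝟙 _ := by
    rw [← cancel_mono j.1.ι, Category.assoc, Category.id_comp, IsOpenImmersion.lift_fac,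
      IsOpenImmersion.lift_fac_assoc, Scheme.homOfLE_ι]
  have hed : e ≫ d = 𝟙 _ := by
    rw [← cancel_mono (j'.π ⁻¹ᵁ O).ι, Category.assoc, Category.id_comp, IsOpenImmersion.lift_fac,
      ← cancel_mono j'.1.ι, Category.assoc, Scheme.homOfLE_ι, IsOpenImmersion.lift_fac]
  obtain ⟨g', hg'⟩ := (isLocQuot j').exists_desc (O := O) (e ≫ j.π) fun T r a b ha hb => by
    let k : T ⟶ (G.s ⁻¹ᵁ j.1).toScheme := IsOpenImmersion.lift (G.s ⁻¹ᵁ j.1).ι (r ≫ (G.s ⁻¹ᵁ j'.1).ι) (by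
      rintro _ ⟨z, rfl⟩
      rw [Scheme.Opens.range_ι]
      show G.s _ ∈ j.1
      rw [← Scheme.Hom.comp_apply, Category.assoc, ← resS_ι, reassoc_of% hb.symm, Scheme.Hom.comp_apply]
      exact hpre.le (b z).2)
    have ka : a ≫ e = k ≫ resT G j.1 j.inv := by
      rw [← cancel_mono j.1.ι, Category.assoc, Category.assoc, IsOpenImmersion.lift_fac, resT_ι,
        IsOpenImmersion.lift_fac_assoc, reassoc_of% ha, resT_ι, Category.assoc]
    have kb : b ≫ e = k ≫ resS G j.1 := by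
      rw [← cancel_mono j.1.ι, Category.assoc, Category.assoc, IsOpenImmersion.lift_fac, resS_ι,
        IsOpenImmersion.lift_fac_assoc, reassoc_of% hb, resS_ι, Category.assoc]
    rw [reassoc_of% ka, reassoc_of% kb, (isLocQuot j).w]
  let g₀ : j.M ⟶ O.toScheme := IsOpenImmersion.lift O.ι (trans h) (by rw [Scheme.Opens.range_ι]; exact subset_rfl)
  have hπ : j.π ≫ g₀ = d ≫ (j'.π ∣_ O) := by
    rw [← cancel_mono O.ι, Category.assoc, Category.assoc, IsOpenImmersion.lift_fac, morphismRestrict_ι,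
      IsOpenImmersion.lift_fac_assoc, π_trans]
  have h1 : g₀ ≫ g' = 𝟙 _ := hom_ext j (by rw [reassoc_of% hπ, hg', reassoc_of% hde, Category.comp_id])
  have h2 : g' ≫ g₀ = 𝟙 _ := (isLocQuot j').hom_ext _ _ (by
    rw [reassoc_of% hg', hπ, reassoc_of% hed, Category.comp_id])
  have : IsIso g₀ := ⟨g', h1, h2⟩
  rw [← IsOpenImmersion.lift_fac O.ι (trans h) (by rw [Scheme.Opens.range_ι]; exact subset_rfl)]
  exact inferInstanceAs (IsOpenImmersion (g₀ ≫ O.ι))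

end QIdx

/-- The diagram of quotients. -/
def qDiagram : QIdx G ⥤ Scheme.{u} where
  obj j := j.M
  map f := QIdx.trans (leOfHom f)
  map_id j := QIdx.hom_ext j (by rw [QIdx.π_trans, Scheme.homOfLE_rfl, Category.id_comp, Category.comp_id])
  map_comp f g := QIdx.hom_ext _ (by
    rw [QIdx.π_trans, reassoc_of% (QIdx.π_trans (leOfHom f)), QIdx.π_trans, Scheme.homOfLE_homOfLE_assoc])

instance {i j : QIdx G} (f : i ⟶ j) : IsOpenImmersion ((qDiagram G).map f) :=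
  QIdx.isOpenImmersion_trans _

/-- Two saturated opens with quotients have one below around each common point. -/
theorem exists_idx_le (i j : QIdx G) (x : G.U) (hi : x ∈ i.1) (hj : x ∈ j.1) :
    ∃ l : QIdx G, l ≤ i ∧ l ≤ j ∧ x ∈ l.1 := by
  have hinv : IsInv G (i.1 ⊓ j.1) := isInv_of_mem fun r hr =>
    ⟨((QIdx.inv i).mem_iff r).1 hr.1, (j.inv.mem_iff r).1 hr.2⟩
  exact ⟨⟨i.1 ⊓ j.1, i.2.mono inf_le_left hinv⟩, (inf_le_left : i.1 ⊓ j.1 ≤ i.1), (inf_le_right : i.1 ⊓ j.1 ≤ j.1), hi, hj⟩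

instance : ((qDiagram G) ⋙ Scheme.forget).IsLocallyDirected := by
  constructor
  intro i j k fi fj xi xj e
  change QIdx.trans (leOfHom fi) xi = QIdx.trans (leOfHom fj) xj at e
  obtain ⟨ui, rfl⟩ := (QIdx.isLocQuot i).surj xi
  obtain ⟨uj, rfl⟩ := (QIdx.isLocQuot j).surj xj
  rw [← Scheme.Hom.comp_apply, ← Scheme.Hom.comp_apply, QIdx.π_trans, QIdx.π_trans, Scheme.Hom.comp_apply,
    Scheme.Hom.comp_apply] at e
  have hval : ∀ {a : QIdx G} (h : a ≤ k) (u : a.1.toScheme), (G.U.homOfLE h u).1 = u.1 := fun h u => by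
    exact congrArg (fun φ => φ u) (Scheme.homOfLE_ι G.U h)
  have hj : ui.1 ∈ j.1 := by
    have := QIdx.mem_of_π_eq (j := j) e (by rw [hval]; exact uj.2)
    rwa [hval] at this
  obtain ⟨l, hli, hlj, hl⟩ := exists_idx_le G i j ui.1 ui.2 hj
  refine ⟨l, homOfLE hli, homOfLE hlj, l.π ⟨ui.1, hl⟩, ?_, ?_⟩
  · change QIdx.trans _ _ = _
    rw [← Scheme.Hom.comp_apply, QIdx.π_trans, Scheme.Hom.comp_apply]
    congr 1
    exact Subtype.ext (congrArg (fun φ => φ (⟨ui.1, hl⟩ : l.1.toScheme)) (Scheme.homOfLE_ι G.U hli))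
  · change QIdx.trans _ _ = _
    apply (QIdx.isOpenImmersion_trans (leOfHom fj)).base_open.injective
    change QIdx.trans (leOfHom fj) _ = QIdx.trans (leOfHom fj) _
    rw [← Scheme.Hom.comp_apply, ← Scheme.Hom.comp_apply, ← Scheme.Hom.comp_apply, QIdx.π_trans,
      ← Category.assoc, QIdx.π_trans, Category.assoc, QIdx.π_trans, Scheme.homOfLE_homOfLE_assoc,
      Scheme.Hom.comp_apply, Scheme.Hom.comp_apply, ← e]
    congr 1
    exact Subtype.ext ((hval (hlj.trans (leOfHom fj)) _).trans (hval (leOfHom fi) ui).symm)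

/-- The quotient scheme. -/
def qScheme : Scheme.{u} := colimit (qDiagram G)

/-- The inclusion of an quotient. -/
def QIdx.inc (j : QIdx G) : j.M ⟶ qScheme G := colimit.ι (qDiagram G) j

instance (j : QIdx G) : IsOpenImmersion (QIdx.inc G j) :=
  inferInstanceAs (IsOpenImmersion (colimit.ι (qDiagram G) j))

theorem QIdx.trans_inc {i j : QIdx G} (h : i ≤ j) : QIdx.trans h ≫ QIdx.inc G j = QIdx.inc G i :=
  colimit.w (qDiagram G) (homOfLE h)

theorem exists_qMap (hc : ∀ x : G.U, ∃ j : QIdx G, x ∈ j.1) :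
    ∃ p : G.U ⟶ qScheme G, ∀ j : QIdx G, j.1.ι ≫ p = j.π ≫ QIdx.inc G j := by
  refine exists_glue (fun j : QIdx G => j.1) (eq_top_iff.2 fun x _ => Opens.mem_iSup.2 (hc x))
    (fun j => j.π ≫ QIdx.inc G j) fun i j => Scheme.hom_ext_of_forall _ _ fun x => ?_
  obtain ⟨l, hli, hlj, hl⟩ := exists_idx_le G i j x.1 x.2.1 x.2.2
  have hle : l.1 ≤ i.1 ⊓ j.1 := le_inf hli hlj
  refine ⟨(i.1 ⊓ j.1).ι ⁻¹ᵁ l.1, hl, ?_⟩
  have key : G.U.homOfLE hle ≫ G.U.homOfLE inf_le_left ≫ i.π ≫ QIdx.inc G i =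
      G.U.homOfLE hle ≫ G.U.homOfLE inf_le_right ≫ j.π ≫ QIdx.inc G j := by
    rw [Scheme.homOfLE_homOfLE_assoc, Scheme.homOfLE_homOfLE_assoc, ← reassoc_of% (QIdx.π_trans hli),
      ← reassoc_of% (QIdx.π_trans hlj), QIdx.trans_inc, QIdx.trans_inc]
  have hk : ((i.1 ⊓ j.1).ι ∣_ l.1) ≫ G.U.homOfLE hle = ((i.1 ⊓ j.1).ι ⁻¹ᵁ l.1).ι := by
    rw [← cancel_mono (i.1 ⊓ j.1).ι, Category.assoc, Scheme.homOfLE_ι, morphismRestrict_ι]
  rw [← hk, Category.assoc, Category.assoc, key]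

section

variable {G} {p : G.U ⟶ qScheme G} (hp : ∀ j : QIdx G, j.1.ι ≫ p = j.π ≫ QIdx.inc G j)
include hp

theorem qMap_apply (j : QIdx G) (u : j.1.toScheme) : p u.1 = QIdx.inc G j (j.π u) := by
  show p (j.1.ι u) = _
  rw [← Scheme.Hom.comp_apply, hp, Scheme.Hom.comp_apply]

theorem qMap_mem_range_iff (hc : ∀ x : G.U, ∃ j : QIdx G, x ∈ j.1) (j : QIdx G) (x : G.U) :
    p x ∈ Set.range (QIdx.inc G j) ↔ x ∈ j.1 := by
  refine ⟨?_, fun hx => ⟨j.π ⟨x, hx⟩, (qMap_apply hp j ⟨x, hx⟩).symm⟩⟩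
  rintro ⟨m, hm⟩
  obtain ⟨i, hi⟩ := hc x
  obtain ⟨u, rfl⟩ := (QIdx.isLocQuot j).surj m
  rw [show p x = QIdx.inc G i (i.π ⟨x, hi⟩) from qMap_apply hp i ⟨x, hi⟩] at hm
  obtain ⟨l, fj, fi, z, hzj, hzi⟩ := (Scheme.IsLocallyDirected.ι_eq_ι_iff (qDiagram G)).1 hm
  change QIdx.trans (leOfHom fi) z = i.π ⟨x, hi⟩ at hzi
  have : (⟨x, hi⟩ : i.1.toScheme) ∈ i.π ⁻¹' Set.range (QIdx.trans (leOfHom fi)) := ⟨z, hzi⟩
  rw [QIdx.preimage_range_trans] at this
  exact leOfHom fj this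

end

section

variable {G} {p : G.U ⟶ qScheme G} (hp : ∀ j : QIdx G, j.1.ι ≫ p = j.π ≫ QIdx.inc G j)
  (hc : ∀ x : G.U, ∃ j : QIdx G, x ∈ j.1)
include hp hc

theorem isPullback_inc (j : QIdx G) : IsPullback j.π j.1.ι (QIdx.inc G j) p := by
  refine IsOpenImmersion.isPullback _ _ _ _ (hp j) (Opens.ext (Set.ext fun x => ?_))
  show p x ∈ Set.range (QIdx.inc G j) ↔ x ∈ Set.range j.1.ι
  rw [qMap_mem_range_iff hp hc, Scheme.Opens.range_ι]
  rfl

theorem qMap_w : G.t ≫ p = G.s ≫ p := by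
  refine Scheme.hom_ext_of_forall _ _ fun r => ?_
  obtain ⟨j, hj⟩ := hc (G.s r)
  refine ⟨G.s ⁻¹ᵁ j.1, hj, ?_⟩
  rw [← reassoc_of% (resT_ι G j.1 j.inv), hp, ← reassoc_of% (resS_ι G j.1), hp,
    reassoc_of% (QIdx.isLocQuot j).w]

/-- A property local on the target holds for the quotient map if it holds for the affine ones. -/
theorem qMap_property (P : MorphismProperty Scheme.{u}) [IsZariskiLocalAtTarget P]
    (h : ∀ j : QIdx G, P j.π) : P p := by
  refine IsZariskiLocalAtTarget.of_openCover (Scheme.IsLocallyDirected.openCover (qDiagram G)) fun j => ?_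
  have hj : IsPullback j.1.ι j.π p (QIdx.inc G j) := (isPullback_inc hp hc j).flip
  show P (pullback.snd p (QIdx.inc G j))
  rw [← hj.isoPullback_inv_snd, MorphismProperty.cancel_left_of_respectsIso P]
  exact h j

theorem surjective_qMap : Function.Surjective p := fun y => by
  obtain ⟨j, m, rfl⟩ := Scheme.IsLocallyDirected.ι_jointly_surjective (qDiagram G) y
  obtain ⟨x, rfl⟩ := (QIdx.isLocQuot j).surj m
  exact ⟨x.1, qMap_apply hp j x⟩

theorem qMap_eq_iff (x y : G.U) : p x = p y ↔ ∃ r : G.R, G.t r = x ∧ G.s r = y := by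
  refine ⟨fun h => ?_, fun ⟨r, h₁, h₂⟩ => by
    rw [← h₁, ← h₂, ← Scheme.Hom.comp_apply, qMap_w hp hc, Scheme.Hom.comp_apply]⟩
  obtain ⟨j, hj⟩ := hc x
  have hy : y ∈ j.1 := by
    rw [← qMap_mem_range_iff hp hc j, ← h, qMap_mem_range_iff hp hc j]
    exact hj
  rw [show p x = _ from qMap_apply hp j ⟨x, hj⟩, show p y = _ from qMap_apply hp j ⟨y, hy⟩] at h
  obtain ⟨r, hrx, hry⟩ := (QIdx.isLocQuot j).orbit _ _ ((QIdx.inc G j).isOpenEmbedding.injective h)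
  refine ⟨r.1, ?_, ?_⟩
  · exact (congrArg (fun φ => φ r) (resT_ι G j.1 j.inv)).symm.trans (congrArg j.1.ι hrx)
  · exact (congrArg (fun φ => φ r) (resS_ι G j.1)).symm.trans (congrArg j.1.ι hry)

theorem exists_isColimit_qMap (w : G.t ≫ p = G.s ≫ p) : Nonempty (IsColimit (Cofork.ofπ p w)) := by
  have key : ∀ (T : Scheme.{u}) (f : G.U ⟶ T), G.t ≫ f = G.s ≫ f → ∃! g : qScheme G ⟶ T, p ≫ g = f := by
    intro T f hf
    have hloc : ∀ j : QIdx G, ∃! g : j.M ⟶ T, j.π ≫ g = j.1.ι ≫ f := fun j =>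
      (QIdx.isLocQuot j).existsUnique_desc_top _ (by
        rw [reassoc_of% (resT_ι G j.1 j.inv), reassoc_of% (resS_ι G j.1), hf])
    choose g hg hu using hloc
    let co : Cocone (qDiagram G) :=
      { pt := T
        ι := { app := g, naturality := fun i j f' => QIdx.hom_ext i (by
                change i.π ≫ QIdx.trans (leOfHom f') ≫ g j = i.π ≫ g i ≫ 𝟙 T
                rw [Category.comp_id, hg i, reassoc_of% (QIdx.π_trans (leOfHom f')), hg j, Scheme.homOfLE_ι_assoc]) } }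
    refine ⟨colimit.desc (qDiagram G) co, Scheme.hom_ext_of_forall _ _ fun x => ?_, fun g' hg' => ?_⟩
    · obtain ⟨j, hj⟩ := hc x
      refine ⟨j.1, hj, ?_⟩
      rw [reassoc_of% (hp j)]
      exact (congrArg (j.π ≫ ·) (colimit.ι_desc co j)).trans (hg j)
    · refine colimit.hom_ext fun j => ?_
      rw [colimit.ι_desc]
      refine hu j _ ?_
      show j.π ≫ QIdx.inc G j ≫ g' = _
      rw [← reassoc_of% (hp j), hg']
  choose d hd hdu using key
  exact ⟨Cofork.IsColimit.mk _ (fun c => d c.pt c.π c.condition) (fun c => hd c.pt c.π c.condition)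
    fun c m hm => hdu c.pt c.π c.condition m hm⟩

end

end Groth.Agent.GrpQLib
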