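import Groth.Agent.GrpdLib.QuasiSection
import Groth.Agent.GrpQLib.Finite

/-!
# The quotient by a groupoid with an affine slice
-/

set_option backward.isDefEq.respectTransparency false
set_option backward.isDefEq.respectTransparency.types false

universe u

open CategoryTheory CategoryTheory.Limits AlgebraicGeometry Grpd

noncomputable section

namespace Groth.Agent.GrpQLib

variable {S : Scheme.{u}}

theorem lft_of_affine_injective {X Y : Scheme.{u}} [IsAffine X] [IsAffine Y] [IsLocallyNoetherian S] (π : X ⟶ Y)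
    [IsIntegralHom π] (hinj : Function.Injective π.appTop) (g : Y ⟶ S) [LocallyOfFiniteType (π ≫ g)] :
    LocallyOfFiniteType g := by
  haveI : LocallyOfFiniteType π := locallyOfFiniteType_of_comp π g
  haveI : IsFinite π := (IsFinite.iff_isIntegralHom_and_locallyOfFiniteType π).2 ⟨inferInstance, inferInstance⟩
  refine (HasRingHomProperty.iff_exists_appLE (P := @LocallyOfFiniteType)
    (RingHom.finiteType_stableUnderComposition.stableUnderCompositionWithLocalizationAway RingHom.finiteType_holdsForLocalizationAway).1).2 fun y => ?_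
  obtain ⟨W, hW, hyW, -⟩ := exists_isAffineOpen_mem_and_subset (U := (⊤ : S.Opens)) (x := g y) trivial
  obtain ⟨c, hyc, hcW⟩ := GrpdLib.exists_basicOpen_of_finite (isAffineOpen_top Y) (O := {y}) (Set.finite_singleton y)
    (g ⁻¹ᵁ W) (by simp) (by simpa using hyW)
  let U := Y.basicOpen c
  have hU : IsAffineOpen U := (isAffineOpen_top Y).basicOpen c
  have hyU : y ∈ U := by simpa using hyc rfl
  refine ⟨⟨W, hW⟩, ⟨U, hU⟩, hyU, hcW, ?_⟩
  have hA : IsAffineOpen (π ⁻¹ᵁ U) := hU.preimage π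
  letI := (g.appLE W U hcW).hom.toAlgebra
  letI := (π.app U).hom.toAlgebra
  letI := ((π.app U).hom.comp (g.appLE W U hcW).hom).toAlgebra
  haveI : IsScalarTower Γ(S, W) Γ(Y, U) Γ(X, π ⁻¹ᵁ U) := IsScalarTower.of_algebraMap_eq' rfl
  haveI : IsNoetherianRing Γ(S, W) := IsLocallyNoetherian.component_noetherian ⟨W, hW⟩
  have h1 := (π ≫ g).finiteType_appLE hW hA (show π ⁻¹ᵁ U ≤ (π ≫ g) ⁻¹ᵁ W from π.preimage_mono hcW)
  rw [← Scheme.Hom.appLE_comp_appLE π g W U (π ⁻¹ᵁ U) hcW le_rfl, ← Scheme.Hom.app_eq_appLE] at h1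
  have h2 : Algebra.FiniteType Γ(S, W) Γ(X, π ⁻¹ᵁ U) := h1
  have h3 : Module.Finite Γ(Y, U) Γ(X, π ⁻¹ᵁ U) := π.finite_app U hU
  exact (⟨fg_of_fg_of_fg Γ(S, W) Γ(Y, U) Γ(X, π ⁻¹ᵁ U) h2.out h3.fg_top
    (GrpdLib.injective_app_basicOpen hinj c)⟩ : Algebra.FiniteType Γ(S, W) Γ(Y, U))

variable {G : GroupoidScheme S}

theorem lft_of_quotMap [IsLocallyNoetherian S] [IsFinite G.s] [Flat G.s] [LocallyOfFinitePresentation G.s]
    {p : G.U ⟶ GrpdLib.quotScheme G}
    (hp : ∀ j : GrpdLib.InvAff G, j.1.ι ≫ p = j.π ≫ GrpdLib.InvAff.inc G j)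
    (hc : ∀ x : G.U, ∃ j : GrpdLib.InvAff G, x ∈ j.1) (q : GrpdLib.quotScheme G ⟶ S)
    (hft : LocallyOfFiniteType (p ≫ q)) : LocallyOfFiniteType q := by
  refine (IsZariskiLocalAtSource.iff_of_openCover (P := @LocallyOfFiniteType)
    (Scheme.IsLocallyDirected.openCover (GrpdLib.quotDiagram G))).2 fun j => ?_
  haveI : IsAffine j.1.toScheme := j.2.1
  haveI := GrpdLib.InvAff.isIntegralHom_π j
  haveI : LocallyOfFiniteType (j.π ≫ GrpdLib.InvAff.inc G j ≫ q) := by
    rw [← Category.assoc, ← hp j, Category.assoc]; infer_instance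
  have h : j.π.appTop = (Scheme.ΓSpecIso _).hom ≫ CommRingCat.ofHom j.grp.invariants.subtype := by
    rw [← cancel_epi (Scheme.ΓSpecIso _).inv, Iso.inv_hom_id_assoc]
    show _ ≫ (j.grp.U.toSpecΓ ≫ Spec.map (CommRingCat.ofHom j.grp.invariants.subtype)).appTop = _
    rw [Scheme.Hom.comp_appTop, Scheme.toSpecΓ_appTop, Scheme.ΓSpecIso_naturality, Iso.inv_hom_id_assoc]
  refine lft_of_affine_injective j.π ?_ (GrpdLib.InvAff.inc G j ≫ q)
  rw [h]
  intro a b hab
  exact (ConcreteCategory.bijective_of_isIso (Scheme.ΓSpecIso (CommRingCat.of j.grp.invariants)).hom).1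
    (Subtype.ext hab)

/-- The quotient by a groupoid with a slice `u` whose map is finite locally free and surjective. -/
theorem coequalizer_of_slice (G : Grpd.GroupoidScheme S) {U' : Scheme.{u}} (u : U' ⟶ G.U)
    (h1 : IsFinite (GrpdLib.srcMap G u) ∧ Flat (GrpdLib.srcMap G u) ∧
      LocallyOfFinitePresentation (GrpdLib.srcMap G u) ∧ Surjective (GrpdLib.srcMap G u))
    (h2 : ∀ E : Set U', E.Finite → ∃ W : U'.Opens, IsAffineOpen W ∧ E ⊆ (W : Set U')) :
    ∃ (Y : Scheme.{u}) (p : G.U ⟶ Y) (w : G.t ≫ p = G.s ≫ p),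
      Nonempty (IsColimit (Cofork.ofπ p w)) ∧ Surjective p ∧
      (IsOpenMap G.t.base → IsOpenMap p.base) ∧ (UniversallyClosed G.t → UniversallyClosed p) ∧
      Function.Surjective (pullback.lift G.t G.s w).base ∧
      (Mono G.j → IsPullback G.t G.s p p ∧ (Flat G.t → Flat p)) ∧
      (IsLocallyNoetherian S → LocallyOfFiniteType (u ≫ G.pU) →
        ∃ q : Y ⟶ S, p ≫ q = G.pU ∧ LocallyOfFiniteType q) := by
  obtain ⟨i₁, i₂, i₃, i₄⟩ := h1
  have : IsFinite (GrpdLib.srcMap G u) := i₁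
  have : Flat (GrpdLib.srcMap G u) := i₂
  have : LocallyOfFinitePresentation (GrpdLib.srcMap G u) := i₃
  have : Surjective (GrpdLib.srcMap G u) := i₄
  let G' := GrpdLib.pullBackGrpd G u
  have : IsFinite G'.s := inferInstanceAs (IsFinite (pullback.snd (GrpdLib.srcMap G u) u))
  have : Flat G'.s := inferInstanceAs (Flat (pullback.snd (GrpdLib.srcMap G u) u))
  have : LocallyOfFinitePresentation G'.s :=
    inferInstanceAs (LocallyOfFinitePresentation (pullback.snd (GrpdLib.srcMap G u) u))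
  have hb : ∀ x : G'.U, ∃ V : G'.U.Opens, IsAffineOpen V ∧ G'.t.base '' (G'.s.base ⁻¹' {x}) ⊆ (V : Set G'.U) :=
    fun x => h2 _ ((G'.s.finite_preimage_singleton x).image _)
  have hc := GrpdLib.exists_invAff hb
  obtain ⟨q, hq⟩ := GrpdLib.exists_quotMap G' hc
  have wq : GrpdLib.pbT G u ≫ q = GrpdLib.pbS G u ≫ q := GrpdLib.quotMap_w hq hc
  obtain ⟨p, hp, hup⟩ := GrpdLib.exists_descend wq
  have wp := GrpdLib.desc_w hp
  obtain ⟨hcol⟩ := GrpdLib.exists_isColimit_quotMap hq hc (GrpdLib.quotMap_w hq hc)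
  have hqsurj := GrpdLib.surjective_quotMap hq hc
  have hlift := GrpdLib.surjective_lift_desc wq hp (GrpdLib.surjective_lift_quotMap hq hc _) wp
  have hint := GrpdLib.isIntegralHom_quotMap hq hc
  have hpsurj : Surjective p := ⟨fun y => by
    obtain ⟨x, rfl⟩ := hqsurj y
    exact ⟨u x, (Scheme.Hom.comp_apply u p x).symm.trans (congrArg (fun φ => φ x) hup)⟩⟩
  refine ⟨_, p, wp, GrpdLib.isColimit_desc wq hp hup hcol wp, hpsurj, fun hopen A hA => ?_,
    fun huc => ?_, hlift, fun hmono => ⟨?_, fun hflat => ?_⟩, fun hS hft => ?_⟩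
  · have hpre : p ⁻¹' (p '' A) = G.t '' (G.s ⁻¹' A) := by
      ext x
      constructor
      · rintro ⟨a, ha, e⟩
        obtain ⟨z, hz₁, hz₂⟩ := Scheme.Pullback.exists_preimage_pullback x a e.symm
        obtain ⟨r, hr⟩ := hlift z
        refine ⟨r, ?_, ?_⟩
        · show G.s r ∈ A
          rw [← pullback.lift_snd (f := p) (g := p) G.t G.s wp, Scheme.Hom.comp_apply, hr, hz₂]
          exact ha
        · rw [← pullback.lift_fst (f := p) (g := p) G.t G.s wp, Scheme.Hom.comp_apply, hr, hz₁]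
      · rintro ⟨r, hr, rfl⟩
        exact ⟨G.s r, hr, by rw [← Scheme.Hom.comp_apply, ← wp, Scheme.Hom.comp_apply]⟩
    have ho : IsOpen (p ⁻¹' (p '' A)) := by rw [hpre]; exact hopen _ (hA.preimage G.s.continuous)
    have hoq : IsOpen (q ⁻¹' (p '' A)) := by
      have e : q ⁻¹' (p '' A) = u ⁻¹' (p ⁻¹' (p '' A)) := by
        rw [← Set.preimage_comp, ← hup]
        rfl
      rw [e]
      exact ho.preimage u.continuous
    rw [← isClosed_compl_iff, ← Set.image_preimage_eq (p '' A)ᶜ hqsurj, Set.preimage_compl]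
    exact q.isClosedMap _ hoq.isClosed_compl
  · have : UniversallyClosed (GrpdLib.srcMap G u ≫ p) := by
      rw [hp]
      infer_instance
    exact UniversallyClosed.of_comp_surjective (GrpdLib.srcMap G u) p
  · have : Mono G'.j := GrpdLib.mono_j_pullBackGrpd G u
    exact GrpdLib.isPullback_desc hp (GrpdLib.isPullback_quotMap hq hc (GrpdLib.quotMap_w hq hc)) wp
  · have : Mono G'.j := GrpdLib.mono_j_pullBackGrpd G u
    have := (GrpdLib.isFinLocFree_quotMap hq hc).2.1
    refine GrpdLib.flat_of_flat_comp (GrpdLib.srcMap G u) p ?_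
    rw [hp]
    infer_instance
  · haveI := hS
    have hw : GrpdLib.pbT G u ≫ u ≫ G.pU = GrpdLib.pbS G u ≫ u ≫ G.pU := by
      rw [← reassoc_of% (GrpdLib.pbMid_t G u), ← reassoc_of% (GrpdLib.pbMid_s G u), G.t_over, G.s_over]
    obtain ⟨qS, hqS⟩ := Cofork.IsColimit.desc' hcol (u ≫ G.pU) hw
    replace hqS : q ≫ qS = u ≫ G.pU := hqS
    refine ⟨qS, ?_, lft_of_quotMap hq hc qS (by rw [hqS]; exact hft)⟩
    rw [← cancel_epi (GrpdLib.srcMap G u), reassoc_of% hp, hqS]
    rw [← pullback.condition_assoc, G.t_over, ← G.s_over, GrpdLib.srcMap, Category.assoc]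

end Groth.Agent.GrpQLib
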