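import Groth.Agent.GrpQLib.Glue
import Groth.Agent.GrpQLib.Quot

/-!
# The quotient by a groupoid which has finite quasi-sections over saturated opens
-/

set_option backward.isDefEq.respectTransparency false
set_option backward.isDefEq.respectTransparency.types false

universe u

open CategoryTheory CategoryTheory.Limits AlgebraicGeometry Grpd TopologicalSpace

noncomputable section

namespace Groth.Agent.GrpQLib

open GrpdLib

variable {S : Scheme.{u}}

/-- A quotient with the properties inherited from finite quasi-sections. -/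
structure GoodQuot (G : GroupoidScheme S) {Y : Scheme.{u}} (p : G.U ⟶ Y) : Prop where
  loc : IsLocQuot G.s G.t p
  univClosed : UniversallyClosed p
  lift_surj : ∀ w : G.t ≫ p = G.s ≫ p, Function.Surjective (pullback.lift G.t G.s w)
  pb : Mono G.j → IsPullback G.t G.s p p ∧ Flat p
  lft : IsLocallyNoetherian S → LocallyOfFiniteType G.pU →
    ∀ q : Y ⟶ S, p ≫ q = G.pU → LocallyOfFiniteType q

/-- Two local quotients differ by a unique isomorphism. -/
theorem exists_iso_of_isLocQuot {R U Y Y' : Scheme.{u}} {s t : R ⟶ U} {p : U ⟶ Y} {p' : U ⟶ Y'}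
    (h : IsLocQuot s t p) (h' : IsLocQuot s t p') : ∃ φ : Y ≅ Y', p ≫ φ.hom = p' := by
  obtain ⟨f, hf, -⟩ := h.existsUnique_desc_top p' h'.w
  obtain ⟨g, hg, -⟩ := h'.existsUnique_desc_top p h.w
  exact ⟨⟨f, g, (h.existsUnique_desc_top p h.w).unique (by rw [reassoc_of% hf, hg])
    (Category.comp_id p), (h'.existsUnique_desc_top p' h'.w).unique (by rw [reassoc_of% hg, hf])
    (Category.comp_id p')⟩, hf⟩

theorem GoodQuot.transfer {G : GroupoidScheme S} {Y Y' : Scheme.{u}} {p : G.U ⟶ Y} {p' : G.U ⟶ Y'}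
    (h : GoodQuot G p) (h' : IsLocQuot G.s G.t p') : GoodQuot G p' := by
  obtain ⟨φ, rfl⟩ := exists_iso_of_isLocQuot h.loc h'
  haveI := h.univClosed
  refine ⟨h', inferInstance, fun w z => ?_, fun hm => ?_, fun hS hft q hq => ?_⟩
  · have w₀ : G.t ≫ p = G.s ≫ p := h.loc.w
    let μ : pullback p p ⟶ pullback (p ≫ φ.hom) (p ≫ φ.hom) :=
      pullback.map p p (p ≫ φ.hom) (p ≫ φ.hom) (𝟙 _) (𝟙 _) φ.hom (by simp) (by simp)
    haveI : IsIso μ := inferInstance
    obtain ⟨z', rfl⟩ := μ.surjective z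
    obtain ⟨r, rfl⟩ := h.lift_surj w₀ z'
    refine ⟨r, ?_⟩
    rw [← Scheme.Hom.comp_apply]
    refine congrArg (fun φ' : G.R ⟶ _ => φ' r) ?_
    apply pullback.hom_ext <;> simp [μ]
  · haveI := (h.pb hm).2
    exact ⟨(h.pb hm).1.of_iso (Iso.refl _) (Iso.refl _) (Iso.refl _) φ (by simp) (by simp) (by simp) (by simp),
      inferInstance⟩
  · haveI := h.lft hS hft (φ.hom ≫ q) (by rw [← Category.assoc, hq])
    rw [← φ.inv_hom_id_assoc q]
    infer_instance

/-- The quotient by a groupoid with a finite quasi-section. -/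
theorem exists_goodQuot_of_slice (G : GroupoidScheme S) [UniversallyClosed G.t] [Flat G.t] {U' : Scheme.{u}}
    (u : U' ⟶ G.U) [LocallyOfFiniteType u]
    (h1 : IsFinite (srcMap G u) ∧ Flat (srcMap G u) ∧ LocallyOfFinitePresentation (srcMap G u) ∧
      Surjective (srcMap G u))
    (h2 : ∀ E : Set U', E.Finite → ∃ W : U'.Opens, IsAffineOpen W ∧ E ⊆ (W : Set U')) :
    ∃ (Y : Scheme.{u}) (p : G.U ⟶ Y), GoodQuot G p := by
  obtain ⟨i₁, i₂, i₃, i₄⟩ := h1
  let G' := pullBackGrpd G u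
  have : IsFinite G'.s := inferInstanceAs (IsFinite (pullback.snd (srcMap G u) u))
  have : Flat G'.s := inferInstanceAs (Flat (pullback.snd (srcMap G u) u))
  have : LocallyOfFinitePresentation G'.s :=
    inferInstanceAs (LocallyOfFinitePresentation (pullback.snd (srcMap G u) u))
  have hb : ∀ x : G'.U, ∃ V : G'.U.Opens, IsAffineOpen V ∧ G'.t.base '' (G'.s.base ⁻¹' {x}) ⊆ (V : Set G'.U) :=
    fun x => h2 _ ((G'.s.finite_preimage_singleton x).image _)
  have hc := exists_invAff hb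
  obtain ⟨q, hq⟩ := exists_quotMap G' hc
  have wq : pbT G u ≫ q = pbS G u ≫ q := quotMap_w hq hc
  obtain ⟨p, hp, hup⟩ := exists_descend wq
  have hloc := isLocQuot_desc hp hup (isLocQuot_quotMap hq hc)
  have := isIntegralHom_quotMap hq hc
  refine ⟨_, p, hloc, ?_, fun w => surjective_lift_desc wq hp (surjective_lift_quotMap hq hc _) w,
    fun hm => ?_, fun hS hft qS hqS => lft_of_quotMap hq hc qS ?_⟩
  · have : UniversallyClosed (srcMap G u ≫ p) := by rw [hp]; infer_instance
    exact UniversallyClosed.of_comp_surjective (srcMap G u) p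
  · have : Mono G'.j := mono_j_pullBackGrpd G u
    refine ⟨isPullback_desc hp (isPullback_quotMap hq hc (quotMap_w hq hc)) hloc.w, ?_⟩
    have := (isFinLocFree_quotMap hq hc).2.1
    refine GrpdLib.flat_of_flat_comp (srcMap G u) p ?_
    rw [hp]
    infer_instance
  · have : q ≫ qS = u ≫ G.pU := by rw [← hup, Category.assoc, hqS]
    rw [this]
    infer_instance

/-- The quotient glued from finite quasi-sections over a cover by saturated opens. -/
theorem exists_goodQuot (G : GroupoidScheme S)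
    (hloc : ∀ x : G.U, ∃ (W : G.U.Opens) (hW : IsInv G W), x ∈ W ∧
      ∃ (Y : Scheme.{u}) (p : W.toScheme ⟶ Y), GoodQuot (restrict G W hW) p) :
    ∃ (Y : Scheme.{u}) (p : G.U ⟶ Y) (w : G.t ≫ p = G.s ≫ p),
      Nonempty (IsColimit (Cofork.ofπ p w)) ∧ Surjective p ∧ UniversallyClosed p ∧
      (IsOpenMap G.s → IsOpenMap p) ∧ Function.Surjective (pullback.lift G.t G.s w) ∧
      (Mono G.j → IsPullback G.t G.s p p ∧ Flat p) ∧
      (IsLocallyNoetherian S → LocallyOfFiniteType G.pU → ∀ q : Y ⟶ S, p ≫ q = G.pU → LocallyOfFiniteType q) := by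
  choose W hW hxW Y₀ p₀ hp₀ using hloc
  have hq : ∀ x, HasQuot G (W x) := fun x => ⟨hW x, Y₀ x, p₀ x, (hp₀ x).loc⟩
  let J : G.U → QIdx G := fun x => ⟨W x, hq x⟩
  have hgood : ∀ x, GoodQuot (restrict G (J x).1 (J x).inv) (J x).π := fun x =>
    (hp₀ x).transfer (J x).isLocQuot
  have hc : ∀ x : G.U, ∃ j : QIdx G, x ∈ j.1 := fun x => ⟨J x, hxW x⟩
  obtain ⟨p, hp⟩ := exists_qMap G hc
  let w := qMap_w hp hc
  let 𝒰 : Scheme.OpenCover (qScheme G) :=
    Scheme.Cover.mkOfCovers G.U (fun x => (J x).M) (fun x => QIdx.inc G (J x)) (fun y => by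
      obtain ⟨x, rfl⟩ := surjective_qMap hp hc y
      exact ⟨x, (qMap_mem_range_iff hp hc (J x) x).2 (hxW x)⟩) (fun x => inferInstance)
  have hprop : ∀ (P : MorphismProperty Scheme.{u}) [IsZariskiLocalAtTarget P],
      (∀ x, P (J x).π) → P p := fun P _ h => by
    refine IsZariskiLocalAtTarget.of_openCover 𝒰 fun x => ?_
    have hj : IsPullback (J x).1.ι (J x).π p (QIdx.inc G (J x)) := (isPullback_inc hp hc (J x)).flip
    show P (pullback.snd p (QIdx.inc G (J x)))
    rw [← hj.isoPullback_inv_snd, MorphismProperty.cancel_left_of_respectsIso P]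
    exact h x
  have hsurj : Surjective p := ⟨surjective_qMap hp hc⟩
  have huc : UniversallyClosed p := hprop @UniversallyClosed fun x => (hgood x).univClosed
  refine ⟨_, p, w, exists_isColimit_qMap hp hc w, hsurj, huc, fun ho A hA => ?_, fun z => ?_,
    fun hm => ⟨?_, hprop @Flat fun x => ((hgood x).pb (mono_j_restrict G _ _)).2⟩, fun hS hft q hq => ?_⟩
  · have hpre : p ⁻¹' (p '' A) = G.s '' (G.t ⁻¹' A) := by
      ext x
      constructor
      · rintro ⟨a, ha, e⟩
        obtain ⟨r, hr₁, hr₂⟩ := (qMap_eq_iff hp hc a x).1 e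
        exact ⟨r, by rw [Set.mem_preimage, hr₁]; exact ha, hr₂⟩
      · rintro ⟨r, hr, rfl⟩
        exact ⟨G.t r, hr, (qMap_eq_iff hp hc _ _).2 ⟨r, rfl, rfl⟩⟩
    rw [← isClosed_compl_iff, ← Set.image_preimage_eq (p '' A)ᶜ (surjective_qMap hp hc), Set.preimage_compl]
    refine p.isClosedMap _ (IsOpen.isClosed_compl ?_)
    rw [hpre]
    exact ho _ (hA.preimage G.t.continuous)
  · let a := pullback.fst p p z
    let j := J a
    let κ : pullback j.π j.π ⟶ pullback p p :=
      pullback.map j.π j.π p p j.1.ι j.1.ι (QIdx.inc G j) (hp j).symm (hp j).symm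
    have hab : p (pullback.fst p p z) = p (pullback.snd p p z) := by
      rw [← Scheme.Hom.comp_apply, pullback.condition, Scheme.Hom.comp_apply]
    have hzr : z ∈ Set.range κ := by
      rw [Scheme.Pullback.range_map]
      constructor
      · rw [Set.mem_preimage, Scheme.Opens.range_ι]; exact hxW a
      · rw [Set.mem_preimage, Scheme.Opens.range_ι]
        refine (qMap_mem_range_iff hp hc j _).1 ?_
        rw [← hab]
        exact (qMap_mem_range_iff hp hc j _).2 (hxW a)
    obtain ⟨z', hz'⟩ := hzr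
    rw [← hz']
    obtain ⟨r, hr⟩ := (hgood a).lift_surj j.isLocQuot.w z'
    rw [← hr]
    refine ⟨(G.s ⁻¹ᵁ j.1).ι r, ?_⟩
    rw [← Scheme.Hom.comp_apply, ← Scheme.Hom.comp_apply]
    refine congrArg (fun φ' : (G.s ⁻¹ᵁ j.1).toScheme ⟶ _ => φ' r) ?_
    apply pullback.hom_ext
    · simp only [κ, Category.assoc, pullback.lift_fst]
      rw [← resT_ι G j.1 j.inv, pullback.lift_fst_assoc]
      rfl
    · simp only [κ, Category.assoc, pullback.lift_snd]
      rw [← resS_ι G j.1, pullback.lift_snd_assoc]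
      rfl
  · have huniq : ∀ {T : Scheme.{u}} (r r' : T ⟶ G.R), r ≫ G.t = r' ≫ G.t → r ≫ G.s = r' ≫ G.s → r = r' :=
      fun r r' h₁ h₂ => (cancel_mono G.j).1 (pullback.hom_ext (by simpa [GroupoidScheme.j] using h₁)
        (by simpa [GroupoidScheme.j] using h₂))
    have hex : ∀ {T : Scheme.{u}} (a b : T ⟶ G.U), a ≫ p = b ≫ p →
        ∃ r : T ⟶ G.R, r ≫ G.t = a ∧ r ≫ G.s = b := by
      intro T a b hab
      have hV : ∀ x, ∃ r : (a ⁻¹ᵁ (J x).1).toScheme ⟶ G.R,
          r ≫ G.t = (a ⁻¹ᵁ (J x).1).ι ≫ a ∧ r ≫ G.s = (a ⁻¹ᵁ (J x).1).ι ≫ b := by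
        intro x
        let j := J x
        let b' := IsOpenImmersion.lift j.1.ι ((a ⁻¹ᵁ j.1).ι ≫ b) (by
          rintro _ ⟨z, rfl⟩
          rw [Scheme.Opens.range_ι]
          refine (qMap_mem_range_iff hp hc j _).1 ?_
          rw [← Scheme.Hom.comp_apply, Category.assoc, ← hab, ← Category.assoc, Scheme.Hom.comp_apply]
          exact (qMap_mem_range_iff hp hc j _).2 z.2)
        have hab' : (a ∣_ j.1) ≫ j.π = b' ≫ j.π := by
          rw [← cancel_mono (QIdx.inc G j), Category.assoc, Category.assoc, ← hp, morphismRestrict_ι_assoc,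
            IsOpenImmersion.lift_fac_assoc, hab, Category.assoc]
        obtain ⟨r, hrt, hrs⟩ := ((hgood x).pb (mono_j_restrict G _ _)).1.exists_lift (a ∣_ j.1) b' hab'
        refine ⟨r ≫ (G.s ⁻¹ᵁ j.1).ι, ?_, ?_⟩
        · rw [Category.assoc, ← resT_ι G j.1 j.inv, ← morphismRestrict_ι, ← Category.assoc]
          exact congrArg (· ≫ j.1.ι) hrt
        · rw [Category.assoc, ← resS_ι G j.1, ← Category.assoc]
          exact (congrArg (· ≫ j.1.ι) hrs).trans (IsOpenImmersion.lift_fac _ _ _)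
      choose r hrt hrs using hV
      have hcov : ⨆ x, a ⁻¹ᵁ (J x).1 = ⊤ :=
        eq_top_iff.2 fun z _ => Opens.mem_iSup.2 ⟨a z, hxW (a z)⟩
      -- the index of the cover lives in the universe of the scheme
      obtain ⟨g, hg⟩ := GrpdLib.exists_glue _ hcov r fun i i' => huniq _ _
        (by simp only [Category.assoc, hrt, Scheme.homOfLE_ι_assoc])
        (by simp only [Category.assoc, hrs, Scheme.homOfLE_ι_assoc])
      refine ⟨g, ?_, ?_⟩ <;>
      · refine Scheme.hom_ext_of_forall _ _ fun z => ?_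
        refine ⟨a ⁻¹ᵁ (J (a z)).1, hxW (a z), ?_⟩
        rw [reassoc_of% (hg (a z))]
        first | exact hrt _ | exact hrs _
    choose l hl₁ hl₂ using fun c : PullbackCone p p => hex c.fst c.snd c.condition
    exact ⟨⟨w⟩, ⟨PullbackCone.IsLimit.mk _ l hl₁ hl₂ fun c m h₁ h₂ => huniq _ _ (h₁.trans (hl₁ c).symm)
      (h₂.trans (hl₂ c).symm)⟩⟩
  · refine (IsZariskiLocalAtSource.iff_of_openCover (P := @LocallyOfFiniteType) 𝒰).2 fun x => ?_
    refine (hgood x).lft hS (inferInstanceAs (LocallyOfFiniteType ((J x).1.ι ≫ G.pU))) _ ?_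
    show (J x).π ≫ QIdx.inc G (J x) ≫ q = (J x).1.ι ≫ G.pU
    rw [← reassoc_of% (hp (J x)), hq]

end Groth.Agent.GrpQLib
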