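import Groth.Agent.GrpQLib.DenseQuot
import Groth.Agent.AlgStLib.MonoQuotGrp
import Groth.Agent.AlgSpLib.Descends2
import Groth.Agent.FlatMisc.GenFlat

/-!
# The image equivalence relation of a groupoid with flat stabilizer
-/

set_option backward.isDefEq.respectTransparency false
set_option backward.isDefEq.respectTransparency.types false

universe u

open CategoryTheory CategoryTheory.Limits AlgebraicGeometry Grpd TopologicalSpace MorphismProperty

noncomputable section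

namespace Groth.Agent.GrpQLib

variable {S : Scheme.{u}} (G : GroupoidScheme S)

/-- The image of `(t, s)`. -/
structure Img where
  /-- the scheme of pairs of equivalent objects -/
  Y : Scheme.{u}
  /-- the projection -/
  ψ : G.R ⟶ Y
  /-- the inclusion -/
  τ : Y ⟶ pullback G.pU G.pU
  fac : ψ ≫ τ = G.j
  surj : Surjective ψ
  flat : Flat ψ
  lfp : LocallyOfFinitePresentation ψ
  mono : Mono τ

variable {G}

namespace Img

variable (I : Img G)

instance : Surjective I.ψ := I.surj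
instance : Flat I.ψ := I.flat
instance : LocallyOfFinitePresentation I.ψ := I.lfp
instance : Mono I.τ := I.mono

/-- target -/
abbrev ty : I.Y ⟶ G.U := I.τ ≫ pullback.fst G.pU G.pU

/-- source -/
abbrev sy : I.Y ⟶ G.U := I.τ ≫ pullback.snd G.pU G.pU

theorem ψ_ty : I.ψ ≫ I.ty = G.t := by rw [ty, reassoc_of% I.fac, GrpdLib.j_fst]
theorem ψ_sy : I.ψ ≫ I.sy = G.s := by rw [sy, reassoc_of% I.fac, GrpdLib.j_snd]

theorem ext {T : Scheme.{u}} {a b : T ⟶ I.Y} (ht : a ≫ I.ty = b ≫ I.ty) (hs : a ≫ I.sy = b ≫ I.sy) : a = b := by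
  rw [← cancel_mono I.τ]
  apply pullback.hom_ext <;> simpa [ty, sy] using ‹_›

theorem exists_inv : ∃ i : I.Y ⟶ I.Y, i ≫ I.sy = I.ty ∧ i ≫ I.ty = I.sy := by
  have h : ∀ {T : Scheme.{u}} (a b : T ⟶ G.R), a ≫ I.ψ = b ≫ I.ψ → a ≫ G.i ≫ I.ψ = b ≫ G.i ≫ I.ψ := by
    intro T a b hab
    refine I.ext ?_ ?_
    · simp only [Category.assoc, I.ψ_ty, G.i_t]; rw [← I.ψ_sy, reassoc_of% hab]
    · simp only [Category.assoc, I.ψ_sy, G.i_s]; rw [← I.ψ_ty, reassoc_of% hab]
  refine ⟨EffectiveEpi.desc I.ψ (G.i ≫ I.ψ) h, ?_, ?_⟩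
  · rw [← cancel_epi I.ψ, EffectiveEpi.fac_assoc, Category.assoc, I.ψ_sy, G.i_s, I.ψ_ty]
  · rw [← cancel_epi I.ψ, EffectiveEpi.fac_assoc, Category.assoc, I.ψ_ty, G.i_t, I.ψ_sy]

theorem exists_comp : ∃ c : pullback I.sy I.ty ⟶ I.Y,
    c ≫ I.sy = pullback.snd _ _ ≫ I.sy ∧ c ≫ I.ty = pullback.fst _ _ ≫ I.ty := by
  let m : pullback G.s G.t ⟶ pullback I.sy I.ty :=
    pullback.map G.s G.t I.sy I.ty I.ψ I.ψ (𝟙 G.U) (by simp [I.ψ_sy]) (by simp [I.ψ_ty])
  let P : MorphismProperty Scheme.{u} := @Surjective ⊓ @Flat ⊓ @LocallyOfFinitePresentation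
  have hP : P m := MorphismProperty.pullbackMap (P := P)
    (⟨⟨I.surj, I.flat⟩, I.lfp⟩ : P I.ψ) (⟨⟨I.surj, I.flat⟩, I.lfp⟩ : P I.ψ)
    (e₁ := by simp [I.ψ_sy]) (e₂ := by simp [I.ψ_ty])
  obtain ⟨⟨_, _⟩, _⟩ := hP
  have e1 : G.c ≫ I.ψ ≫ I.sy = m ≫ pullback.snd _ _ ≫ I.sy := by
    rw [I.ψ_sy, GrpdLib.c_s]; simp [m, I.ψ_sy]
  have e2 : G.c ≫ I.ψ ≫ I.ty = m ≫ pullback.fst _ _ ≫ I.ty := by
    rw [I.ψ_ty, GrpdLib.c_t]; simp [m, I.ψ_ty]
  have h : ∀ {T : Scheme.{u}} (a b : T ⟶ pullback G.s G.t), a ≫ m = b ≫ m → a ≫ G.c ≫ I.ψ = b ≫ G.c ≫ I.ψ := by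
    intro T a b hab
    refine I.ext ?_ ?_
    · simp only [Category.assoc, e2, reassoc_of% hab]
    · simp only [Category.assoc, e1, reassoc_of% hab]
  refine ⟨EffectiveEpi.desc m (G.c ≫ I.ψ) h, ?_, ?_⟩
  · rw [← cancel_epi m, EffectiveEpi.fac_assoc, Category.assoc, e1]
  · rw [← cancel_epi m, EffectiveEpi.fac_assoc, Category.assoc, e2]

/-- The equivalence relation on the same objects. -/
def grpd : GroupoidScheme S where
  U := G.U
  R := I.Y
  pU := G.pU
  pR := I.sy ≫ G.pU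
  s := I.sy
  t := I.ty
  e := G.e ≫ I.ψ
  i := I.exists_inv.choose
  c := I.exists_comp.choose
  s_over := rfl
  t_over := by simp only [ty, sy, Category.assoc, pullback.condition]
  comp_s α β h := by rw [Category.assoc, I.exists_comp.choose_spec.1, pullback.lift_snd_assoc]
  comp_t α β h := by rw [Category.assoc, I.exists_comp.choose_spec.2, pullback.lift_fst_assoc]
  assoc α β γ h₁ h₂ := by
    refine I.ext ?_ ?_ <;>
      simp only [Category.assoc, I.exists_comp.choose_spec.1, I.exists_comp.choose_spec.2,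
        pullback.lift_fst_assoc, pullback.lift_snd_assoc]
  e_s := by rw [Category.assoc, I.ψ_sy, G.e_s]
  e_t := by rw [Category.assoc, I.ψ_ty, G.e_t]
  comp_e α := by
    refine I.ext ?_ ?_ <;>
      simp only [Category.assoc, I.exists_comp.choose_spec.1, I.exists_comp.choose_spec.2,
        pullback.lift_fst_assoc, pullback.lift_snd_assoc, I.ψ_sy, G.e_s, Category.comp_id]
  e_comp α := by
    refine I.ext ?_ ?_ <;>
      simp only [Category.assoc, I.exists_comp.choose_spec.1, I.exists_comp.choose_spec.2,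
        pullback.lift_fst_assoc, pullback.lift_snd_assoc, I.ψ_ty, G.e_t, Category.comp_id]
  i_s := I.exists_inv.choose_spec.1
  i_t := I.exists_inv.choose_spec.2
  comp_i α := by
    refine I.ext ?_ ?_ <;>
      simp only [Category.assoc, I.exists_comp.choose_spec.1, I.exists_comp.choose_spec.2,
        pullback.lift_fst_assoc, pullback.lift_snd_assoc, I.ψ_ty, I.ψ_sy, G.e_t, G.e_s,
        I.exists_inv.choose_spec.1, Category.comp_id]
  i_comp α := by
    refine I.ext ?_ ?_ <;>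
      simp only [Category.assoc, I.exists_comp.choose_spec.1, I.exists_comp.choose_spec.2,
        pullback.lift_fst_assoc, pullback.lift_snd_assoc, I.ψ_ty, I.ψ_sy, G.e_t, G.e_s,
        I.exists_inv.choose_spec.2, Category.comp_id]

theorem mono_j : Mono I.grpd.j := by
  have : I.grpd.j = I.τ := pullback.hom_ext (pullback.lift_fst _ _ _) (pullback.lift_snd _ _ _)
  rw [this]; exact I.mono

end Img

/-- A flat stabilizer gives the image. -/
theorem exists_img [LocallyOfFinitePresentation G.j] (h : Flat G.stabilizerToU) : Nonempty (Img G) := by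
  obtain ⟨a, b, ha, hb⟩ := GrpdLib.exists_stabilizer_pullbacks G
  let αs : pullback G.stabilizerToU G.s ⟶ pullback G.s G.t :=
    pullback.lift (pullback.snd G.stabilizerToU G.s) (pullback.fst G.stabilizerToU G.s ≫ GrpdLib.stabι G)
      (by rw [Category.assoc, GrpdLib.stabι_t, pullback.condition])
  have hs := GrpdLib.isPullback_stab_s G αs (pullback.lift_fst ..) (pullback.lift_snd ..)
  haveI : Flat (pullback.fst G.j G.j) := by
    refine AlgStLib.MonoFactor.flat_fst_of_flat_snd ?_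
    rw [← MorphismProperty.cancel_left_of_respectsIso (P := @Flat) hs.isoPullback.hom,
      IsPullback.isoPullback_hom_snd]
    exact MorphismProperty.pullback_snd _ _ h
  obtain ⟨Y, ψ, τ, h1, h2, h3, h4, hf⟩ := AlgStLib.MonoFactor.exists_factor G.j
  exact ⟨⟨Y, ψ, τ, hf, h1, h2, h3, h4⟩⟩

/-- A flat stabilizer gives a dense saturated open with a flat quotient. -/
theorem exists_dense_quotient_of_flat_stabilizer [IsNoetherian S] (G : GroupoidScheme S) [Flat G.s]
    [LocallyOfFiniteType G.s] [QuasiCompact G.s] [LocallyOfFiniteType G.pU] [QuasiCompact G.pU]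
    (h : Flat G.stabilizerToU) :
    ∃ (W : G.U.Opens) (hW : G.t ⁻¹ᵁ W = G.s ⁻¹ᵁ W), Dense (W : Set G.U) ∧
      ∃ (V : Scheme.{u}) (p : (W : Scheme.{u}) ⟶ V)
        (w : G.t.resLE W (G.s ⁻¹ᵁ W) hW.ge ≫ p = (G.s ∣_ W) ≫ p) (q : V ⟶ S),
        Nonempty (IsColimit (Cofork.ofπ p w)) ∧ p ≫ q = W.ι ≫ G.pU ∧
        Surjective p ∧ Flat p ∧ LocallyOfFinitePresentation p ∧ LocallyOfFiniteType q ∧ QuasiCompact q := by
  haveI : IsLocallyNoetherian G.U := LocallyOfFiniteType.isLocallyNoetherian G.pU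
  haveI : LocallyOfFinitePresentation G.s := inferInstance
  haveI : LocallyOfFinitePresentation G.j := by
    haveI : LocallyOfFiniteType (pullback.fst G.pU G.pU) := MorphismProperty.pullback_fst _ _ inferInstance
    haveI : LocallyOfFinitePresentation (G.j ≫ pullback.fst G.pU G.pU) := by
      rw [GrpdLib.j_fst]; exact lfp_t G
    exact Groth.Agent.AlgSpPts.locallyOfFinitePresentation_of_comp _ (pullback.fst G.pU G.pU)
  obtain ⟨I⟩ := exists_img h
  let G' := I.grpd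
  haveI hψs : Flat (I.ψ ≫ I.sy) := by rw [I.ψ_sy]; infer_instance
  haveI : Flat G'.s := GrpdLib.flat_of_flat_comp I.ψ I.sy hψs
  haveI : QuasiCompact G'.s := by
    haveI : QuasiCompact (I.ψ ≫ I.sy) := by rw [I.ψ_sy]; infer_instance
    show QuasiCompact I.sy
    refine ⟨fun U hU hUc => ?_⟩
    have := ((QuasiCompact.isCompact_preimage (f := I.ψ ≫ I.sy) U hU hUc)).image I.ψ.continuous
    rwa [show (I.ψ ≫ I.sy) ⁻¹' U = I.ψ ⁻¹' (I.sy ⁻¹' U) from rfl, Set.image_preimage_eq _ I.ψ.surjective] at this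
  haveI : LocallyOfFiniteType G'.s := by
    haveI : LocallyOfFiniteType (I.ψ ≫ I.sy) := by rw [I.ψ_sy]; infer_instance
    show LocallyOfFiniteType I.sy
    exact (SrcDescent.locallyOfFiniteType_of_fppf_comp I.ψ I.sy)
  haveI : LocallyOfFiniteType G'.pU := inferInstanceAs (LocallyOfFiniteType G.pU)
  haveI : QuasiCompact G'.pU := inferInstanceAs (QuasiCompact G.pU)
  haveI : Mono G'.j := I.mono_j
  haveI : LocallyQuasiFinite G'.j := by
    haveI : LocallyOfFiniteType (G'.j ≫ pullback.snd G'.pU G'.pU) := by rw [GrpdLib.j_snd]; infer_instance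
    haveI : LocallyOfFiniteType G'.j := locallyOfFiniteType_of_comp _ (pullback.snd G'.pU G'.pU)
    refine LocallyQuasiFinite.of_finite_preimage_singleton _ fun y => ?_
    exact (Set.subsingleton_singleton.preimage G'.j.injective).finite
  obtain ⟨W, hW', hd, V, p, w', q, ⟨hc⟩, hpq, hs, -, hp, hq, hqc, -, -, hm⟩ := exists_dense_quotient G'
  have hW : G.t ⁻¹ᵁ W = G.s ⁻¹ᵁ W := by
    rw [← I.ψ_ty, ← I.ψ_sy]
    exact congrArg (I.ψ ⁻¹ᵁ ·) hW'
  have hr : G.s ⁻¹ᵁ W = I.ψ ⁻¹ᵁ (I.sy ⁻¹ᵁ W) := by rw [← I.ψ_sy]; rfl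
  let m : (G.s ⁻¹ᵁ W).toScheme ⟶ (I.sy ⁻¹ᵁ W).toScheme := I.ψ.resLE (I.sy ⁻¹ᵁ W) (G.s ⁻¹ᵁ W) hr.le
  have hms : m ≫ (I.sy ∣_ W) = G.s ∣_ W := by
    rw [← cancel_mono W.ι, Category.assoc, morphismRestrict_ι, Scheme.Hom.resLE_comp_ι_assoc, morphismRestrict_ι,
      I.ψ_sy]
  have hmt : m ≫ G'.t.resLE W (G'.s ⁻¹ᵁ W) hW'.ge = G.t.resLE W (G.s ⁻¹ᵁ W) hW.ge := by
    rw [← cancel_mono W.ι, Category.assoc, Scheme.Hom.resLE_comp_ι]
    show m ≫ (I.sy ⁻¹ᵁ W).ι ≫ I.ty = _
    rw [Scheme.Hom.resLE_comp_ι_assoc, Scheme.Hom.resLE_comp_ι, I.ψ_ty]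
  haveI : Epi m := by
    have hsq : IsPullback m (G.s ⁻¹ᵁ W).ι (I.sy ⁻¹ᵁ W).ι I.ψ := by
      refine IsOpenImmersion.isPullback _ _ _ _ (Scheme.Hom.resLE_comp_ι ..).symm ?_
      simp [hr]
    haveI : Surjective m := MorphismProperty.of_isPullback hsq.flip I.surj
    haveI : Flat m := MorphismProperty.of_isPullback hsq.flip I.flat
    haveI : LocallyOfFinitePresentation m := MorphismProperty.of_isPullback hsq.flip I.lfp
    infer_instance
  have w : G.t.resLE W (G.s ⁻¹ᵁ W) hW.ge ≫ p = (G.s ∣_ W) ≫ p := by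
    rw [← hmt, ← hms, Category.assoc, Category.assoc]; exact congrArg (m ≫ ·) w'
  refine ⟨W, hW, hd, V, p, w, q, ⟨?_⟩, hpq, hs, (hm inferInstance).2, hp, inferInstance, hqc⟩
  refine Cofork.IsColimit.mk _ (fun c => hc.desc (Cofork.ofπ c.π ?_)) (fun c => hc.fac _ WalkingParallelPair.one)
    fun c l hl => ?_
  · rw [← cancel_epi m]
    rw [reassoc_of% hmt]
    show _ = m ≫ (I.sy ∣_ W) ≫ c.π
    rw [reassoc_of% hms]
    exact c.condition
  · refine Cofork.IsColimit.hom_ext hc ?_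
    refine hl.trans ?_
    exact (hc.fac (Cofork.ofπ c.π _) WalkingParallelPair.one).symm

end Groth.Agent.GrpQLib
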