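import Groth.Agent.GrpdLib.QuasiSection
import Groth.Agent.GrpdLib.OrbitTop

/-!
# Locality of the quotient by a groupoid with a finite quasi-section
-/

set_option backward.isDefEq.respectTransparency false
set_option backward.isDefEq.respectTransparency.types false

universe u

open CategoryTheory CategoryTheory.Limits AlgebraicGeometry Grpd TopologicalSpace

noncomputable section

namespace Groth.Agent.GrpQLib

open GrpdLib

section Transfer

variable {R U Y R' U' Y' : Scheme.{u}} {s t : R ⟶ U} {p : U ⟶ Y} {s' t' : R' ⟶ U'} {p' : U' ⟶ Y'}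
  (κ : U' ⟶ U) (ι : Y' ⟶ Y) (ρ : R' ⟶ R) [IsOpenImmersion κ] [IsOpenImmersion ι]
  (hsq : κ ≫ p = p' ≫ ι) (hrange : p ⁻¹' Set.range ι = Set.range κ)
  (hs : ρ ≫ s = s' ≫ κ) (ht : ρ ≫ t = t' ≫ κ)

/-- Invariant maps to affine schemes factor uniquely over an open. -/
def Fac {R U Y : Scheme.{u}} (s t : R ⟶ U) (p : U ⟶ Y) (O : Y.Opens) : Prop :=
  ∀ (Z : Scheme.{u}) [IsAffine Z] (f : (p ⁻¹ᵁ O).toScheme ⟶ Z),
    InvHom s t (p ⁻¹ᵁ O).ι f → ∃! g : O.toScheme ⟶ Z, (p ∣_ O) ≫ g = f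

include hsq hrange in
theorem exists_isos (O : Y'.Opens) :
    ∃ (a : (p' ⁻¹ᵁ O).toScheme ≅ (p ⁻¹ᵁ (ι ''ᵁ O)).toScheme) (φ : O.toScheme ≅ (ι ''ᵁ O).toScheme),
      a.hom ≫ (p ⁻¹ᵁ (ι ''ᵁ O)).ι = (p' ⁻¹ᵁ O).ι ≫ κ ∧ a.hom ≫ (p ∣_ (ι ''ᵁ O)) = (p' ∣_ O) ≫ φ.hom := by
  let m := (p' ⁻¹ᵁ O).ι ≫ κ
  have happ : ∀ x, p (κ x) = ι (p' x) := fun x => by
    rw [← Scheme.Hom.comp_apply, ← Scheme.Hom.comp_apply, hsq]
  have hm : Set.range m = ((p ⁻¹ᵁ (ι ''ᵁ O) : U.Opens) : Set U) := by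
    ext x
    constructor
    · rintro ⟨y, rfl⟩
      exact ⟨p' y.1, y.2, (happ y.1).symm⟩
    · rintro ⟨y, hy, e⟩
      obtain ⟨x', rfl⟩ := hrange.le (⟨y, e⟩ : x ∈ p ⁻¹' Set.range ι)
      have : y = p' x' := ι.isOpenEmbedding.injective (e.trans (happ x'))
      exact ⟨⟨x', by show p' x' ∈ O; rw [← this]; exact hy⟩, rfl⟩
  let a := IsOpenImmersion.isoOfRangeEq m (p ⁻¹ᵁ (ι ''ᵁ O)).ι (by rw [hm, Scheme.Opens.range_ι])
  have ha : a.hom ≫ (p ⁻¹ᵁ (ι ''ᵁ O)).ι = m := IsOpenImmersion.isoOfRangeEq_hom_fac ..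
  refine ⟨a, ι.isoImage O, ha, ?_⟩
  rw [← cancel_mono (ι ''ᵁ O).ι]
  simp only [Category.assoc, morphismRestrict_ι, reassoc_of% ha, Scheme.Hom.isoImage_hom_ι,
    morphismRestrict_ι_assoc, m, hsq]

include hsq hrange hs ht in
theorem fac_image (O : Y'.Opens) (h : Fac s' t' p' O) : Fac s t p (ι ''ᵁ O) := by
  obtain ⟨a, φ, ha, hsq'⟩ := exists_isos κ ι hsq hrange O
  intro Z _ f hf
  obtain ⟨g, hg, hu⟩ := h Z (a.hom ≫ f) fun T r x y hx hy => by
    rw [← Category.assoc, ← Category.assoc]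
    exact hf (r ≫ ρ) _ _ (by rw [Category.assoc, ha, reassoc_of% hx, Category.assoc, ht])
      (by rw [Category.assoc, ha, reassoc_of% hy, Category.assoc, hs])
  refine ⟨φ.inv ≫ g, ?_, fun g' hg' => ?_⟩
  · dsimp only
    rw [← cancel_epi a.hom, reassoc_of% hsq', Iso.hom_inv_id_assoc, hg]
  · rw [← cancel_epi φ.hom, Iso.hom_inv_id_assoc]
    refine hu _ ?_
    dsimp only at hg' ⊢
    rw [← reassoc_of% hsq', hg']

include hsq hrange hs ht in
theorem fac_of_image (hlift : ∀ ⦃T : Scheme.{u}⦄ (r : T ⟶ R) (b : T ⟶ U'), b ≫ κ = r ≫ s → ∃ r', r' ≫ ρ = r)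
    (O : Y'.Opens) (h : Fac s t p (ι ''ᵁ O)) : Fac s' t' p' O := by
  obtain ⟨a, φ, ha, hsq'⟩ := exists_isos κ ι hsq hrange O
  intro Z _ f hf
  have ha' : a.inv ≫ (p' ⁻¹ᵁ O).ι ≫ κ = (p ⁻¹ᵁ (ι ''ᵁ O)).ι := by rw [← ha, Iso.inv_hom_id_assoc]
  obtain ⟨g, hg, hu⟩ := h Z (a.inv ≫ f) fun T r x y hx hy => by
    obtain ⟨r', rfl⟩ := hlift r (y ≫ a.inv ≫ (p' ⁻¹ᵁ O).ι)
      (by simp only [Category.assoc]; rw [ha', hy])
    rw [← Category.assoc, ← Category.assoc]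
    refine hf r' _ _ ?_ ?_
    · rw [← cancel_mono κ]
      simp only [Category.assoc]
      rw [ha', hx, Category.assoc, ht]
    · rw [← cancel_mono κ]
      simp only [Category.assoc]
      rw [ha', hy, Category.assoc, hs]
  refine ⟨φ.hom ≫ g, ?_, fun g' hg' => ?_⟩
  · dsimp only
    rw [← reassoc_of% hsq', hg, Iso.hom_inv_id_assoc]
  · rw [← cancel_epi φ.inv, Iso.inv_hom_id_assoc]
    refine hu _ ?_
    dsimp only at hg' ⊢
    rw [← cancel_epi a.hom, Iso.hom_inv_id_assoc, reassoc_of% hsq', Iso.hom_inv_id_assoc, hg']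

end Transfer

variable {S : Scheme.{u}}

/-- The glued quotient by a finite locally free groupoid is a quotient locally on the base. -/
theorem isLocQuot_quotMap {G : GroupoidScheme S} [IsFinite G.s] [Flat G.s] [LocallyOfFinitePresentation G.s]
    {p : G.U ⟶ quotScheme G} (hp : ∀ j : InvAff G, j.1.ι ≫ p = j.π ≫ InvAff.inc G j)
    (hc : ∀ x : G.U, ∃ j : InvAff G, x ∈ j.1) : IsLocQuot G.s G.t p := by
  have := isIntegralHom_quotMap hp hc
  refine ⟨quotMap_w hp hc, surjective_quotMap hp hc, p.isClosedMap,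
    fun x y h => (quotMap_eq_iff hp hc x y).1 h, fun O y hy => ?_⟩
  obtain ⟨j, m, rfl⟩ := Scheme.IsLocallyDirected.ι_jointly_surjective (quotDiagram G) y
  obtain ⟨O', hle, hm, hfac⟩ := (InvAff.isLocQuot j).basis (InvAff.inc G j ⁻¹ᵁ O) m hy
  refine ⟨InvAff.inc G j ''ᵁ O', ?_, ⟨m, hm, rfl⟩, fac_image j.1.ι (InvAff.inc G j) (G.s ⁻¹ᵁ j.1).ι
    (hp j) ?_ (resS_ι G j.1).symm (resT_ι G j.1 j.2.2).symm O' hfac⟩
  · rintro _ ⟨z, hz, rfl⟩
    exact hle hz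
  · ext x
    rw [Scheme.Opens.range_ι]
    exact quotMap_mem_range_iff hp hc j x

/-- The quotient obtained from a quasi-section is a quotient locally on the base. -/
theorem isLocQuot_desc {G : GroupoidScheme S} {U' Y : Scheme.{u}} {g : U' ⟶ G.U} {p : G.U ⟶ Y} {q : U' ⟶ Y}
    [IsFinite (srcMap G g)] [Flat (srcMap G g)] [LocallyOfFinitePresentation (srcMap G g)]
    [Surjective (srcMap G g)] [UniversallyClosed G.t]
    (hp : srcMap G g ≫ p = pullback.snd G.t g ≫ q) (hgp : g ≫ p = q) (hq : IsLocQuot (pbS G g) (pbT G g) q) :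
    IsLocQuot G.s G.t p := by
  let σ := srcMap G g
  let τ := pullback.snd G.t g
  have happ : ∀ v, p (σ v) = q (τ v) := fun v => by
    rw [← Scheme.Hom.comp_apply, ← Scheme.Hom.comp_apply, hp]
  refine ⟨desc_w hp, fun y => ?_, fun A hA => ?_, fun x y h => ?_, fun O y hy => ?_⟩
  · obtain ⟨x, rfl⟩ := hq.surj y
    exact ⟨g x, by rw [← Scheme.Hom.comp_apply, hgp]⟩
  · have e : p '' A = q '' (τ '' (σ ⁻¹' A)) := by
      ext z
      constructor
      · rintro ⟨x, hx, rfl⟩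
        obtain ⟨v, rfl⟩ := σ.surjective x
        exact ⟨τ v, ⟨v, hx, rfl⟩, (happ v).symm⟩
      · rintro ⟨_, ⟨v, hv, rfl⟩, rfl⟩
        exact ⟨σ v, hv, happ v⟩
    rw [e]
    exact hq.closedMap _ (τ.isClosedMap _ (hA.preimage σ.continuous))
  · obtain ⟨v, rfl⟩ := σ.surjective x
    obtain ⟨v', rfl⟩ := σ.surjective y
    rw [happ, happ] at h
    obtain ⟨ρ, h₁, h₂⟩ := hq.orbit _ _ h
    have hfst : ∀ w, G.t (pullback.fst G.t g w) = g (τ w) ∧ G.s (pullback.fst G.t g w) = σ w := fun w =>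
      ⟨by rw [← Scheme.Hom.comp_apply, pullback.condition, Scheme.Hom.comp_apply],
        by rw [← Scheme.Hom.comp_apply]; rfl⟩
    have hmid : ∀ w, G.t (pbMid G g w) = g (pbT G g w) ∧ G.s (pbMid G g w) = g (pbS G g w) := fun w =>
      ⟨by rw [← Scheme.Hom.comp_apply, pbMid_t, Scheme.Hom.comp_apply],
        by rw [← Scheme.Hom.comp_apply, pbMid_s, Scheme.Hom.comp_apply]⟩
    obtain ⟨a, ha₁, ha₂⟩ := exists_inv G (pullback.fst G.t g v)
    obtain ⟨b, hb₁, hb₂⟩ := exists_comp (G := G) a (pbMid G g ρ) (by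
      rw [ha₂, (hfst v).1, (hmid ρ).1, h₁])
    obtain ⟨c, hc₁, hc₂⟩ := exists_comp (G := G) b (pullback.fst G.t g v') (by
      rw [hb₂, (hfst v').1, (hmid ρ).2, h₂])
    exact ⟨c, by rw [hc₁, hb₁, ha₁, (hfst v).2], by rw [hc₂, (hfst v').2]⟩
  · obtain ⟨O', hle, hyO', hfac⟩ := hq.basis O y hy
    refine ⟨O', hle, hyO', fun Z _ f hf => ?_⟩
    let P := p ⁻¹ᵁ O'
    let u₀ : (q ⁻¹ᵁ O').toScheme ⟶ P.toScheme := IsOpenImmersion.lift P.ι ((q ⁻¹ᵁ O').ι ≫ g) (by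
      rintro _ ⟨z, rfl⟩
      rw [Scheme.Opens.range_ι]
      show p (g z.1) ∈ O'
      rw [← Scheme.Hom.comp_apply, hgp]
      exact z.2)
    have hu₀ : u₀ ≫ P.ι = (q ⁻¹ᵁ O').ι ≫ g := IsOpenImmersion.lift_fac ..
    have huq : u₀ ≫ (p ∣_ O') = (q ∣_ O') := by
      rw [← cancel_mono O'.ι, Category.assoc, morphismRestrict_ι, reassoc_of% hu₀, hgp, morphismRestrict_ι]
    obtain ⟨g₀, hg₀, hu⟩ := hfac Z (u₀ ≫ f) fun T r a b ha hb => by
      rw [← Category.assoc, ← Category.assoc]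
      exact hf (r ≫ pbMid G g) _ _
        (by rw [Category.assoc, hu₀, reassoc_of% ha, Category.assoc, pbMid_t])
        (by rw [Category.assoc, hu₀, reassoc_of% hb, Category.assoc, pbMid_s])
    refine ⟨g₀, ?_, fun g' hg' => hu g' (by dsimp only at hg' ⊢; rw [← huq, Category.assoc, hg'])⟩
    let V := σ ⁻¹ᵁ P
    let k : V.toScheme ⟶ (q ⁻¹ᵁ O').toScheme := IsOpenImmersion.lift (q ⁻¹ᵁ O').ι (V.ι ≫ τ) (by
      rintro _ ⟨z, rfl⟩
      rw [Scheme.Opens.range_ι]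
      show q (τ z.1) ∈ O'
      rw [← happ]
      exact z.2)
    have hk : k ≫ (q ⁻¹ᵁ O').ι = V.ι ≫ τ := IsOpenImmersion.lift_fac ..
    have hkq : (σ ∣_ P) ≫ (p ∣_ O') = k ≫ (q ∣_ O') := by
      rw [← cancel_mono O'.ι, Category.assoc, Category.assoc, morphismRestrict_ι, morphismRestrict_ι,
        morphismRestrict_ι_assoc, reassoc_of% hk, hp]
    have : Surjective (σ ∣_ P) := IsZariskiLocalAtTarget.restrict ‹_› P
    have : Flat (σ ∣_ P) := IsZariskiLocalAtTarget.restrict ‹_› P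
    have : LocallyOfFinitePresentation (σ ∣_ P) := IsZariskiLocalAtTarget.restrict ‹_› P
    have : IsFinite (σ ∣_ P) := IsZariskiLocalAtTarget.restrict ‹_› P
    dsimp only
    rw [← cancel_epi (σ ∣_ P), reassoc_of% hkq, hg₀, ← Category.assoc]
    refine hf (V.ι ≫ pullback.fst G.t g) _ _ ?_ ?_
    · rw [Category.assoc, hu₀, reassoc_of% hk, Category.assoc, pullback.condition]
    · rw [morphismRestrict_ι, Category.assoc]
      rfl

end Groth.Agent.GrpQLib
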