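import Groth.Agent.GrpQLib.ProperSlice
import Groth.Agent.GrpQLib.GlueSlice
import Groth.Agent.AlgSpDec.FinsetAffine
import Groth.Agent.SrcDescent.QsSurj
import Groth.Agent.SchTorsor.Props

/-!
# The quotient of a quasi-projective scheme by a proper flat groupoid
-/

set_option backward.isDefEq.respectTransparency false
set_option backward.isDefEq.respectTransparency.types false

universe u

open CategoryTheory CategoryTheory.Limits AlgebraicGeometry Grpd TopologicalSpace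

noncomputable section

namespace Groth.Agent.GrpQLib

open GrpdLib

variable {S : Scheme.{u}} (G : GroupoidScheme S)

/-- Finite subsets of a subset lie in affine opens. -/
def FinAffine {X : Scheme.{u}} (A : Set X) : Prop :=
  ∀ T : Set X, T.Finite → T ⊆ A → ∃ V : X.Opens, IsAffineOpen V ∧ T ⊆ V

theorem finAffine_of_immersion {X Y : Scheme.{u}} (v : Y ⟶ X) [IsImmersion v] {A : Set X} (hA : FinAffine A)
    (hv : Set.range v ⊆ A) (T : Set Y) (hT : T.Finite) : ∃ V : Y.Opens, IsAffineOpen V ∧ T ⊆ V := by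
  obtain ⟨V, hV, hTV⟩ := hA (v '' T) (hT.image v) (fun _ ⟨x, _, e⟩ => e ▸ hv ⟨x, rfl⟩)
  haveI : IsAffine V.toScheme := hV
  haveI : IsImmersion (v ∣_ V) := IsZariskiLocalAtTarget.restrict ‹_› V
  obtain ⟨U, hU, hTU⟩ := AlgSpDec.exists_affineOpen_of_finite (v ∣_ V) (T := (v ⁻¹ᵁ V).ι ⁻¹' T)
    (hT.preimage (v ⁻¹ᵁ V).ι.isOpenEmbedding.injective.injOn)
  exact ⟨(v ⁻¹ᵁ V).ι ''ᵁ U, hU.image_of_isOpenImmersion _,
    fun x hx => ⟨⟨x, hTV ⟨x, hx, rfl⟩⟩, hTU hx, rfl⟩⟩

section Immersion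

variable {G} {n : ℕ} (e : G.U ⟶ CohB1.ProjSpaceOver n S) [IsImmersion e]
  (he : e ≫ CohB1.ProjSpaceOver.toBase n S = G.pU)

include he in
/-- Finite sets of objects over an affine open of the base lie in affine opens. -/
theorem finAffine_preimage (B : S.Opens) (hB : IsAffineOpen B) : FinAffine ((G.pU ⁻¹ᵁ B : G.U.Opens) : Set G.U) := by
  intro T hT hTB
  obtain ⟨f, d, hd, hf, hfT⟩ := exists_hyper_avoid n (toPZ G e '' T) (hT.image _)
  let D : (CohB1.ProjSpace n (ULift.{u} ℤ)).Opens := Proj.basicOpen _ f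
  haveI : IsAffine D.toScheme := isAffineOpen_hyper n hd hf
  haveI : IsAffine B.toScheme := hB
  let k : pullback (D.ι ≫ CohB1.ProjSpace.toSpec n (ULift.{u} ℤ)) (B.ι ≫ specULiftZIsTerminal.from S) ⟶
      CohB1.ProjSpaceOver n S := pullback.map _ _ _ _ D.ι B.ι (𝟙 _) (by simp) (by simp)
  haveI : IsOpenImmersion k := inferInstanceAs (IsOpenImmersion (pullback.map _ _ _ _ D.ι B.ι (𝟙 _) _ _))
  let V := k.opensRange
  haveI : IsAffine V.toScheme := isAffineOpen_opensRange k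
  haveI : IsImmersion (e ∣_ V) := IsZariskiLocalAtTarget.restrict ‹_› V
  obtain ⟨U, hU, hTU⟩ := AlgSpDec.exists_affineOpen_of_finite (e ∣_ V) (T := (e ⁻¹ᵁ V).ι ⁻¹' T)
    (hT.preimage (e ⁻¹ᵁ V).ι.isOpenEmbedding.injective.injOn)
  refine ⟨(e ⁻¹ᵁ V).ι ''ᵁ U, hU.image_of_isOpenImmersion _, fun x hx => ?_⟩
  have hxV : e x ∈ Set.range k := by
    have hk : Set.range k = (pullback.fst (CohB1.ProjSpace.toSpec n (ULift.{u} ℤ)) (specULiftZIsTerminal.from S)) ⁻¹'
        Set.range D.ι ∩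
        (pullback.snd (CohB1.ProjSpace.toSpec n (ULift.{u} ℤ)) (specULiftZIsTerminal.from S)) ⁻¹' Set.range B.ι :=
      Scheme.Pullback.range_map _ _ _ _ _ _ _ _ _
    rw [hk, Scheme.Opens.range_ι, Scheme.Opens.range_ι]
    refine ⟨hfT _ ⟨x, hx, rfl⟩, ?_⟩
    show (pullback.snd (CohB1.ProjSpace.toSpec n (ULift.{u} ℤ)) (specULiftZIsTerminal.from S)) (e x) ∈ B
    refine (congrArg (fun φ : G.U ⟶ S => φ x) he).symm ▸ ?_
    exact hTB hx
  exact ⟨⟨x, hxV⟩, hTU hx, rfl⟩

end Immersion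

theorem property_restrict_comp (P : MorphismProperty Scheme.{u}) [P.RespectsIso] {X Y Z : Scheme.{u}} (f : X ⟶ Y)
    (ι : Y ⟶ Z) [IsOpenImmersion ι] (W : Y.Opens) (h : P (f ∣_ W)) : P ((f ≫ ι) ∣_ (ι ''ᵁ W)) := by
  have key : ∀ W' : Y.Opens, W' = W → P (f ∣_ W') := fun W' e => e ▸ h
  haveI : IsIso (ι ∣_ (ι ''ᵁ W)) := by
    haveI : IsOpenImmersion (ι ∣_ (ι ''ᵁ W)) := inferInstance
    haveI : Surjective (ι ∣_ (ι ''ᵁ W)) := ⟨fun y => by
      obtain ⟨w, hw, e⟩ := y.2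
      refine ⟨⟨w, ⟨w, hw, rfl⟩⟩, (ι ''ᵁ W).ι.isOpenEmbedding.injective ?_⟩
      rw [← Scheme.Hom.comp_apply, morphismRestrict_ι]
      exact e⟩
    have : Epi (ι ∣_ (ι ''ᵁ W)).base := (TopCat.epi_iff_surjective _).2 (ι ∣_ (ι ''ᵁ W)).surjective
    exact IsOpenImmersion.isIso _
  rw [morphismRestrict_comp, P.cancel_right_of_respectsIso]
  exact key _ (ι.preimage_image_eq W)

/-- A finite cut over a saturated open gives a finite quasi-section there. -/
theorem exists_slice_of_cut (W : G.U.Opens) (hW : IsInv G W) {Z : Scheme.{u}} (g : Z ⟶ G.U) [IsImmersion g]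
    (h1 : IsFinite (srcMap G g ∣_ W) ∧ Flat (srcMap G g ∣_ W) ∧
      LocallyOfFinitePresentation (srcMap G g ∣_ W) ∧ Surjective (srcMap G g ∣_ W))
    (hA : FinAffine (W : Set G.U)) :
    ∃ (U' : Scheme.{u}) (u : U' ⟶ (restrict G W hW).U), IsImmersion u ∧
      (IsFinite (srcMap (restrict G W hW) u) ∧ Flat (srcMap (restrict G W hW) u) ∧
        LocallyOfFinitePresentation (srcMap (restrict G W hW) u) ∧ Surjective (srcMap (restrict G W hW) u)) ∧
      ∀ E : Set U', E.Finite → ∃ V : U'.Opens, IsAffineOpen V ∧ E ⊆ (V : Set U') := by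
  haveI : IsImmersion (g ∣_ W) := IsZariskiLocalAtTarget.restrict ‹_› W
  refine ⟨_, g ∣_ W, ‹_›, ⟨srcMap_restrict_property G W hW g @IsFinite h1.1,
    srcMap_restrict_property G W hW g @Flat h1.2.1,
    srcMap_restrict_property G W hW g @LocallyOfFinitePresentation h1.2.2.1,
    srcMap_restrict_property G W hW g @Surjective h1.2.2.2⟩, fun E hE => ?_⟩
  refine finAffine_of_immersion ((g ⁻¹ᵁ W).ι ≫ g) hA ?_ E hE
  rintro _ ⟨x, rfl⟩
  exact x.2

variable {n : ℕ} (e : G.U ⟶ CohB1.ProjSpaceOver n S) [IsImmersion e]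
  (he : e ≫ CohB1.ProjSpaceOver.toBase n S = G.pU) [IsProper G.s] [Flat G.s]
  [LocallyOfFinitePresentation G.s] [LocallyQuasiFinite G.j]

include he in
/-- A finite quasi-section exists over a saturated neighbourhood of any point. -/
theorem exists_local_slice (z : G.U) :
    ∃ (W : G.U.Opens) (hW : IsInv G W), z ∈ W ∧ ∃ (U' : Scheme.{u}) (u : U' ⟶ (restrict G W hW).U), IsImmersion u ∧
      (IsFinite (srcMap (restrict G W hW) u) ∧ Flat (srcMap (restrict G W hW) u) ∧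
        LocallyOfFinitePresentation (srcMap (restrict G W hW) u) ∧ Surjective (srcMap (restrict G W hW) u)) ∧
      ∀ E : Set U', E.Finite → ∃ V : U'.Opens, IsAffineOpen V ∧ E ⊆ (V : Set U') := by
  obtain ⟨B, hB, hzB⟩ := GrpdLib.exists_affineOpen_mem (G.pU z)
  obtain ⟨W, hW, Z, i, hzW, hWB, hci, -, h1, h2, h3, h4⟩ := exists_finite_cut e he z B hzB
  haveI := hci
  exact ⟨W, hW, hzW, exists_slice_of_cut G W hW i ⟨h1, h2, h3, h4⟩
    fun T hT hTW => finAffine_preimage e he B hB T hT (fun x hx => hWB (hTW hx))⟩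

include he in
/-- The quotient of a quasi-projective scheme by a proper flat groupoid with quasi-finite `(t, s)`. -/
theorem exists_quotient :
    ∃ (Y : Scheme.{u}) (p : G.U ⟶ Y) (w : G.t ≫ p = G.s ≫ p) (q : Y ⟶ S),
      Nonempty (IsColimit (Cofork.ofπ p w)) ∧ p ≫ q = G.pU ∧ Surjective p ∧ IsOpenMap p.base ∧
      UniversallyClosed p ∧ Function.Surjective (pullback.lift G.t G.s w).base ∧
      (Mono G.j → IsPullback G.t G.s p p ∧ Flat p) ∧
      (IsLocallyNoetherian S → LocallyOfFiniteType G.pU → LocallyOfFiniteType q) := by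
  haveI : IsIso G.i := ⟨G.i, GrpdLib.i_i G, GrpdLib.i_i G⟩
  haveI := flat_t G
  haveI : IsProper G.t := by rw [← G.i_s]; infer_instance
  obtain ⟨Y, p, w, hcol, hsurj, huc, hopen, hlift, hmono, hlft⟩ := exists_goodQuot G fun x => by
    obtain ⟨W, hW, hxW, U', u, hu, h1, h2⟩ := exists_local_slice G e he x
    haveI := hu
    have hsq : IsPullback (resT G W hW) (G.s ⁻¹ᵁ W).ι W.ι G.t :=
      IsOpenImmersion.isPullback _ _ _ _ (resT_ι G W hW).symm (by
        rw [Scheme.Opens.opensRange_ι, Scheme.Opens.opensRange_ι]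
        exact hW.symm)
    haveI : UniversallyClosed (restrict G W hW).t :=
      MorphismProperty.of_isPullback (P := @UniversallyClosed) hsq.flip inferInstance
    haveI : Flat (restrict G W hW).t := MorphismProperty.of_isPullback (P := @Flat) hsq.flip inferInstance
    exact ⟨W, hW, hxW, exists_goodQuot_of_slice (restrict G W hW) u h1 h2⟩
  obtain ⟨col⟩ := hcol
  obtain ⟨q, hq⟩ := Cofork.IsColimit.desc' col G.pU (G.t_over.trans G.s_over.symm)
  exact ⟨Y, p, w, q, ⟨col⟩, hq, hsurj, hopen G.s.isOpenMap, huc, hlift, hmono, fun a b => hlft a b q hq⟩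

end Groth.Agent.GrpQLib
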