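import Groth.Agent.GrpdLib.QuasiSection
import Groth.Agent.GrpdLib.StabTorsor
import Groth.Agent.GrpdLib.DegDecomp
import Groth.Agent.AlgSpDec.SliceSquares

/-!
# The translation squares of a groupoid along a slice `g : Z ⟶ U`
-/

set_option backward.isDefEq.respectTransparency false
set_option backward.isDefEq.respectTransparency.types false

universe u

open CategoryTheory CategoryTheory.Limits AlgebraicGeometry Grpd

noncomputable section

namespace Groth.Agent.GrpQLib

open GrpdLib

variable {S : Scheme.{u}} (G : GroupoidScheme S) {Z : Scheme.{u}} (g : Z ⟶ G.U)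

/-- Pairs of arrows with the same target in `Z`. -/
abbrev pairs : Scheme.{u} := pullback (pullback.snd G.t g) (pullback.snd G.t g)

theorem pairs_t : (pullback.fst _ _ ≫ pullback.fst G.t g) ≫ G.t =
    (pullback.snd (pullback.snd G.t g) (pullback.snd G.t g) ≫ pullback.fst G.t g) ≫ G.t := by
  simp only [Category.assoc, pullback.condition]
  exact pullback.condition_assoc g

theorem pairs_cond :
    ((pullback.fst _ _ ≫ pullback.fst G.t g) ≫ G.i) ≫ G.s =
      (pullback.snd (pullback.snd G.t g) (pullback.snd G.t g) ≫ pullback.fst G.t g) ≫ G.t := by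
  simp only [Category.assoc, G.i_s]
  rw [pullback.condition]
  exact pullback.condition_assoc g

/-- The translation `(x, y) ↦ x⁻¹ ∘ y`. -/
def transl : pairs G g ⟶ G.R :=
  pullback.lift ((pullback.fst _ _ ≫ pullback.fst G.t g) ≫ G.i)
    (pullback.snd (pullback.snd G.t g) (pullback.snd G.t g) ≫ pullback.fst G.t g) (pairs_cond G g) ≫ G.c

theorem transl_t : transl G g ≫ G.t = pullback.fst _ _ ≫ srcMap G g := by
  rw [transl, G.comp_t]; simp only [srcMap, Category.assoc, G.i_t]

theorem transl_s : transl G g ≫ G.s = pullback.snd _ _ ≫ srcMap G g := by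
  rw [transl, G.comp_s]; simp only [srcMap, Category.assoc]

variable {G g}

/-- `x ∘ (x⁻¹ ∘ y) = y`. -/
theorem comp_div_cancel {T : Scheme.{u}} (x y : T ⟶ G.R) (h : x ≫ G.t = y ≫ G.t) :
    pullback.lift x (pullback.lift (x ≫ G.i) y (by rw [Category.assoc, G.i_s, h]) ≫ G.c)
      (by rw [G.comp_t, Category.assoc, G.i_t]) ≫ G.c = y := by
  refine (G.assoc x (x ≫ G.i) y (by rw [Category.assoc, G.i_t]) (by rw [Category.assoc, G.i_s, h])).symm.trans ?_
  refine (c_congr G _ (G.comp_i x) rfl).trans ?_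
  refine (c_congr G _ (?_ : x ≫ G.t ≫ G.e = y ≫ G.t ≫ G.e) rfl).trans (G.e_comp y)
  rw [reassoc_of% h]

/-- A left inverse is the inverse. -/
theorem eq_inv_of_comp {T : Scheme.{u}} (r γ : T ⟶ G.R) (h : r ≫ G.s = γ ≫ G.t)
    (hr : pullback.lift r γ h ≫ G.c = r ≫ G.t ≫ G.e) : γ = r ≫ G.i := by
  have h1 : pullback.lift (r ≫ G.i) (pullback.lift r γ h ≫ G.c) (by rw [G.comp_t, Category.assoc, G.i_s]) ≫ G.c =
      γ := by
    refine (G.assoc (r ≫ G.i) r γ (by rw [Category.assoc, G.i_s]) h).symm.trans ?_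
    refine (c_congr G _ (G.i_comp r) rfl).trans ?_
    exact (c_congr G _ (show r ≫ G.s ≫ G.e = γ ≫ G.t ≫ G.e by rw [reassoc_of% h]) rfl).trans (G.e_comp γ)
  rw [← h1]
  refine (c_congr G _ rfl hr).trans ?_
  refine (c_congr G _ rfl (?_ : r ≫ G.t ≫ G.e = (r ≫ G.i) ≫ G.s ≫ G.e)).trans (G.comp_e (r ≫ G.i))
  rw [Category.assoc, reassoc_of% G.i_s]

variable (G g)

/-- Pairs are the base change of the slice map along `t`. -/
theorem isPullback_transl_t :
    IsPullback (pullback.fst _ _) (transl G g) (srcMap G g) G.t := by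
  refine ⟨⟨(transl_t G g).symm⟩, ⟨PullbackCone.IsLimit.mk _ (fun c => pullback.lift c.fst
    (pullback.lift (pullback.lift (c.fst ≫ pullback.fst G.t g) c.snd
      (by simpa only [Category.assoc, srcMap] using c.condition) ≫ G.c) (c.fst ≫ pullback.snd G.t g)
      (by rw [G.comp_t, Category.assoc, pullback.condition, Category.assoc]))
    (pullback.lift_snd _ _ _).symm) (fun c => pullback.lift_fst _ _ _) (fun c => ?_) ?_⟩⟩
  · rw [transl, lift_comp_c]
    refine (c_congr G _ (α' := (c.fst ≫ pullback.fst G.t g) ≫ G.i)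
      (β' := pullback.lift (c.fst ≫ pullback.fst G.t g) c.snd
        (by simpa only [Category.assoc, srcMap] using c.condition) ≫ G.c) ?_ ?_).trans ?_
    · simp
    · simp
    · have h0 : (c.fst ≫ pullback.fst G.t g) ≫ G.s = c.snd ≫ G.t := by
        simpa only [Category.assoc, srcMap] using c.condition
      refine (G.assoc _ _ _ (by rw [Category.assoc, G.i_s]) h0).symm.trans ?_
      refine (c_congr G _ (G.i_comp _) rfl).trans ?_
      refine (c_congr G _ (?_ : (c.fst ≫ pullback.fst G.t g) ≫ G.s ≫ G.e = c.snd ≫ G.t ≫ G.e) rfl).trans (G.e_comp _)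
      rw [← Category.assoc _ G.s, h0, Category.assoc]
  · intro c m h1 h2
    apply pullback.hom_ext
    · rw [h1, pullback.lift_fst]
    · rw [pullback.lift_snd]
      apply pullback.hom_ext
      · rw [pullback.lift_fst, Category.assoc]
        have hc := comp_div_cancel (m ≫ pullback.fst _ _ ≫ pullback.fst G.t g) (m ≫ pullback.snd _ _ ≫ pullback.fst G.t g)
          (by simpa only [Category.assoc] using congrArg (m ≫ ·) (pairs_t G g))
        refine hc.symm.trans (c_congr G _ ?_ ?_)
        · rw [reassoc_of% h1]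
        · rw [← h2, transl, lift_comp_c]
          exact c_congr G _ (by simp only [Category.assoc]) rfl
      · rw [pullback.lift_snd, Category.assoc, ← pullback.condition, reassoc_of% h1]

theorem swap_transl : (pullbackSymmetry _ _).hom ≫ transl G g = transl G g ≫ G.i := by
  let σ := (pullbackSymmetry (pullback.snd G.t g) (pullback.snd G.t g)).hom
  let x := pullback.fst (pullback.snd G.t g) (pullback.snd G.t g) ≫ pullback.fst G.t g
  let y := pullback.snd (pullback.snd G.t g) (pullback.snd G.t g) ≫ pullback.fst G.t g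
  have hσ : σ ≫ transl G g = pullback.lift (y ≫ G.i) x (by
      have := congrArg (σ ≫ ·) (pairs_cond G g)
      simpa [σ, x, y] using this) ≫ G.c := by
    rw [transl, lift_comp_c]
    exact c_congr G _ (by simp [σ, x, y]) (by simp [σ, x, y])
  have hxy : y ≫ G.t = x ≫ G.t := (pairs_t G g).symm
  have hxi : (x ≫ G.i) ≫ G.s = y ≫ G.t := by rw [Category.assoc, G.i_s, hxy]
  have hyi : (y ≫ G.i) ≫ G.s = x ≫ G.t := by rw [Category.assoc, G.i_s, hxy]
  refine eq_inv_of_comp _ _ ?_ ?_
  · rw [transl_s, hσ, G.comp_t]; simp only [y, srcMap, Category.assoc, G.i_t]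
  · refine (c_congr G _ (rfl : transl G g = pullback.lift (x ≫ G.i) y hxi ≫ G.c) hσ).trans ?_
    refine (G.assoc (x ≫ G.i) y (pullback.lift (y ≫ G.i) x hyi ≫ G.c) hxi
      (by rw [G.comp_t]; simp only [Category.assoc, G.i_t])).trans ?_
    refine (c_congr G _ rfl (comp_div_cancel y x hxy)).trans ?_
    refine (G.i_comp x).trans ?_
    rw [reassoc_of% (transl_t G g)]
    simp only [x, srcMap, Category.assoc]

/-- Pairs are the base change of the slice map along `s`. -/
theorem isPullback_transl_s :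
    IsPullback (pullback.snd _ _) (transl G g) (srcMap G g) G.s := by
  haveI : IsIso G.i := ⟨G.i, GrpdLib.i_i G, GrpdLib.i_i G⟩
  refine (isPullback_transl_t G g).of_iso (pullbackSymmetry _ _) (Iso.refl _) (asIso G.i) (Iso.refl _) ?_ ?_ ?_ ?_
  · simp
  · rw [asIso_hom, swap_transl]
  · simp
  · simp [G.i_s]

/-- Flatness and quasi-finiteness at a point only depend on the image in `Z`. -/
theorem good_invariant [Flat G.s] [Flat G.t] [LocallyOfFinitePresentation (srcMap G g)]
    {x y : ↥(pullback G.t g)} (hxy : pullback.snd G.t g x = pullback.snd G.t g y)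
    (hx : ((srcMap G g).stalkMap x).hom.Flat ∧ (srcMap G g).QuasiFiniteAt x) :
    ((srcMap G g).stalkMap y).hom.Flat ∧ (srcMap G g).QuasiFiniteAt y := by
  obtain ⟨w, hw1, hw2⟩ := Scheme.exists_preimage_of_isPullback
    (IsPullback.of_hasPullback (pullback.snd G.t g) (pullback.snd G.t g)) x y hxy
  obtain ⟨a1, a2⟩ := AlgSpDec.Slice.good_iff (isPullback_transl_t G g) w x hw1
  obtain ⟨b1, b2⟩ := AlgSpDec.Slice.good_iff (isPullback_transl_s G g) w y hw2
  exact ⟨b1.1 (a1.2 hx.1), b2.1 (a2.2 hx.2)⟩

end Groth.Agent.GrpQLib
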