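import Groth.Agent.GrpQLib.FibreCut
import Groth.Agent.GrpQLib.DenseQuot
import Groth.Agent.GrpQLib.Translate

/-!
# Finite quasi-sections of proper flat groupoids on quasi-projective schemes
-/

set_option backward.isDefEq.respectTransparency false
set_option backward.isDefEq.respectTransparency.types false

universe u

open CategoryTheory CategoryTheory.Limits AlgebraicGeometry Grpd TopologicalSpace

noncomputable section

namespace Groth.Agent.GrpQLib

open GrpdLib

variable {S : Scheme.{u}} (G : GroupoidScheme S) {n : ℕ} (e : G.U ⟶ CohB1.ProjSpaceOver n S)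

/-- The coordinates of the objects. -/
abbrev toPZ : G.U ⟶ CohB1.ProjSpace n (ULift.{u} ℤ) := e ≫ pullback.fst _ _

/-- The arrows with source `z`, mapped to projective space by the target. -/
abbrev fibreToPZ (z : G.U) : G.s.fiber z ⟶ CohB1.ProjSpace n (ULift.{u} ℤ) := G.s.fiberι z ≫ G.t ≫ toPZ G e

variable [IsImmersion e] (he : e ≫ CohB1.ProjSpaceOver.toBase n S = G.pU) [IsProper G.s] [LocallyQuasiFinite G.j]

include he in
/-- The arrows with a given source are affine over projective space. -/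
theorem isAffineHom_fibreToPZ (z : G.U) : IsAffineHom (fibreToPZ G e z) := by
  let k := G.U.fromSpecResidueField z
  let π := CohB1.ProjSpaceOver.toBase n S
  let α : G.s.fiber z ⟶ pullback G.pU (k ≫ G.pU) :=
    pullback.lift (G.s.fiberι z ≫ G.t) (G.s.fiberToSpecResidueField z) (by
      rw [Category.assoc, G.t_over, ← G.s_over]
      exact pullback.condition_assoc _)
  let β : pullback G.pU (k ≫ G.pU) ⟶ pullback π (k ≫ G.pU) :=
    pullback.map _ _ _ _ e (𝟙 _) (𝟙 _) (by rw [Category.comp_id, he]) (by simp)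
  let m : pullback G.pU (k ≫ G.pU) ⟶ pullback G.pU G.pU :=
    pullback.map _ _ _ _ (𝟙 _) k (𝟙 _) (by simp) (by simp)
  have hm : IsPullback (pullback.snd G.pU (k ≫ G.pU)) m k (pullback.snd G.pU G.pU) :=
    IsPullback.of_bot (by simpa [m] using (IsPullback.of_hasPullback G.pU (k ≫ G.pU)).flip)
      (by simp [m]) (IsPullback.of_hasPullback G.pU G.pU).flip
  have hj : IsPullback (G.s.fiberι z) α G.j m := by
    refine IsPullback.of_bot ?_ ?_ hm.flip
    · have : α ≫ pullback.snd G.pU (k ≫ G.pU) = G.s.fiberToSpecResidueField z := pullback.lift_snd ..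
      rw [this, GroupoidScheme.j, pullback.lift_snd]
      exact IsPullback.of_hasPullback G.s k
    · apply pullback.hom_ext
      · simp [α, m, GroupoidScheme.j]
      · simp only [α, m, GroupoidScheme.j, Category.assoc, pullback.lift_snd, pullback.lift_snd_assoc]
        exact pullback.condition
  haveI : LocallyQuasiFinite α := MorphismProperty.of_isPullback (P := @LocallyQuasiFinite) hj inferInstance
  have hβ : IsPullback (pullback.fst G.pU (k ≫ G.pU)) β e (pullback.fst π (k ≫ G.pU)) := by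
    refine IsPullback.of_bot ?_ (by simp [β]) (IsPullback.of_hasPullback π (k ≫ G.pU))
    rw [show β ≫ pullback.snd π (k ≫ G.pU) = pullback.snd G.pU (k ≫ G.pU) by simp [β],
      show e ≫ π = G.pU from he]
    exact IsPullback.of_hasPullback G.pU (k ≫ G.pU)
  haveI : IsImmersion β := MorphismProperty.of_isPullback (P := @IsImmersion) hβ inferInstance
  let Φ := α ≫ β
  have hΦ : Φ ≫ pullback.snd π (k ≫ G.pU) = G.s.fiberToSpecResidueField z := by simp [Φ, α, β]
  haveI : IsSeparated π := MorphismProperty.pullback_snd (P := @IsSeparated) _ _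
    (inferInstanceAs (IsSeparated (Proj.toSpecZero _ ≫ Spec.map _)))
  haveI : IsProper (G.s.fiberToSpecResidueField z) := MorphismProperty.pullback_snd (P := @IsProper) _ _ ‹_›
  haveI : IsProper (Φ ≫ pullback.snd π (k ≫ G.pU)) := by rw [hΦ]; infer_instance
  haveI : IsProper Φ := IsProper.of_comp Φ (pullback.snd π (k ≫ G.pU))
  haveI : IsFinite Φ := (IsFinite.iff_isProper_and_locallyQuasiFinite Φ).2 ⟨inferInstance, inferInstance⟩
  let γ : pullback π (k ≫ G.pU) ⟶ CohB1.ProjSpace n (ULift.{u} ℤ) := pullback.fst π (k ≫ G.pU) ≫ pullback.fst _ _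
  have hγ : IsPullback γ (pullback.snd π (k ≫ G.pU)) (CohB1.ProjSpace.toSpec n (ULift.{u} ℤ))
      ((k ≫ G.pU) ≫ specULiftZIsTerminal.from S) :=
    (IsPullback.of_hasPullback π (k ≫ G.pU)).paste_horiz (IsPullback.of_hasPullback _ _)
  haveI : IsAffineHom γ := MorphismProperty.of_isPullback (P := @IsAffineHom) hγ.flip
    (inferInstanceAs (IsAffineHom ((k ≫ G.pU) ≫ specULiftZIsTerminal.from S)))
  have : fibreToPZ G e z = Φ ≫ γ := by simp [fibreToPZ, Φ, γ, α, β, toPZ]
  rw [this]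
  infer_instance

include he in
/-- A point of a fibre all of whose specializations avoid a hypersurface is closed in the fibre. -/
theorem eq_of_specializes (z : G.U) {D : (CohB1.ProjSpace n (ULift.{u} ℤ)).Opens} (hD : IsAffineOpen D)
    {x y : G.s.fiber z} (hxy : x ⤳ y) (hall : ∀ w, x ⤳ w → fibreToPZ G e z w ∈ D) : x = y := by
  haveI := isAffineHom_fibreToPZ G e he z
  let Z : (G.s.fiber z).IdealSheafData := Scheme.IdealSheafData.vanishingIdeal ⟨closure {x}, isClosed_closure⟩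
  let O := fibreToPZ G e z ⁻¹ᵁ D
  haveI : IsAffine O.toScheme := hD.preimage (fibreToPZ G e z)
  have hr : Set.range Z.subschemeι = closure {x} := by
    rw [Scheme.IdealSheafData.range_subschemeι, Scheme.IdealSheafData.coe_support_vanishingIdeal]
    rfl
  let l : Z.subscheme ⟶ O.toScheme := IsOpenImmersion.lift O.ι Z.subschemeι (by
    rw [hr, Scheme.Opens.range_ι]
    exact fun w hw => hall w (specializes_iff_mem_closure.2 hw))
  have hl : l ≫ O.ι = Z.subschemeι := IsOpenImmersion.lift_fac ..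
  haveI : IsClosedImmersion (l ≫ O.ι) := by rw [hl]; infer_instance
  haveI : IsClosedImmersion l := IsClosedImmersion.of_comp l O.ι
  haveI : IsAffine Z.subscheme := isAffine_of_isAffineHom l
  let r := Z.subschemeι ≫ G.s.fiberToSpecResidueField z
  haveI : IsProper (G.s.fiberToSpecResidueField z) := MorphismProperty.pullback_snd (P := @IsProper) _ _ ‹_›
  haveI : IsFinite r := (IsFinite.iff_isProper_and_isAffineHom).2 ⟨inferInstance, inferInstance⟩
  obtain ⟨x', hx'⟩ : x ∈ Set.range Z.subschemeι := by rw [hr]; exact subset_closure rfl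
  obtain ⟨y', hy'⟩ : y ∈ Set.range Z.subschemeι := by rw [hr]; exact specializes_iff_mem_closure.1 hxy
  have hs : x' ⤳ y' := Z.subschemeι.isClosedEmbedding.toIsInducing.specializes_iff.1 (by rw [hx', hy']; exact hxy)
  have hd : _root_.IsDiscrete (r ⁻¹' {r x'}) := r.isDiscrete_preimage_singleton (r x')
  have hy : y' ∈ r ⁻¹' {r x'} := Subsingleton.elim (α := Spec (G.U.residueField z)) _ _
  haveI := hd.to_subtype
  have : (⟨x', rfl⟩ : r ⁻¹' {r x'}) ⤳ ⟨y', hy⟩ := (subtype_specializes_iff _ _).2 hs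
  rw [← hx', ← hy']
  exact congrArg (fun v => Z.subschemeι v.1) this.eq

/-- A closed slice, flat over `z` and meeting the orbit of `z`. -/
def Good (z : G.U) {Z : Scheme.{u}} (i : Z ⟶ G.U) : Prop :=
  IsClosedImmersion i ∧ LocallyOfFinitePresentation i ∧
    (∀ x, srcMap G i x = z → ((srcMap G i).stalkMap x).hom.Flat) ∧ ∃ x, srcMap G i x = z

/-- The arrows with source `z` into the slice. -/
def slicePts (z : G.U) {Z : Scheme.{u}} (i : Z ⟶ G.U) : Set (G.s.fiber z) :=
  {w | G.t (G.s.fiberι z w) ∈ Set.range i}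

variable {G} in
theorem slicePts_eq_fst (z : G.U) {Z : Scheme.{u}} (i : Z ⟶ G.U) (w : G.s.fiber z) (hw : w ∈ slicePts G z i) :
    ∃ x, pullback.fst G.t i x = G.s.fiberι z w ∧ srcMap G i x = z := by
  obtain ⟨v, hv⟩ := hw
  obtain ⟨x, hx, -⟩ := Scheme.Pullback.exists_preimage_pullback (f := G.t) (g := i) (G.s.fiberι z w) v hv.symm
  refine ⟨x, hx, ?_⟩
  rw [srcMap, Scheme.Hom.comp_apply, hx]
  exact (G.s.range_fiberι z).le ⟨w, rfl⟩

variable {G} in
theorem exists_fiber_of_srcMap (z : G.U) {Z : Scheme.{u}} (i : Z ⟶ G.U) (x : ↥(pullback G.t i))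
    (hx : srcMap G i x = z) : ∃ w ∈ slicePts G z i, G.s.fiberι z w = pullback.fst G.t i x := by
  obtain ⟨w, hw⟩ : pullback.fst G.t i x ∈ Set.range (G.s.fiberι z) := by
    rw [G.s.range_fiberι]
    exact hx
  refine ⟨w, ⟨pullback.snd G.t i x, ?_⟩, hw⟩
  rw [hw, ← Scheme.Hom.comp_apply, ← pullback.condition, Scheme.Hom.comp_apply]

variable [Flat G.s] [LocallyOfFinitePresentation G.s]

include he in
/-- A slice which is not quasi-finite at `z` can be cut further. -/
theorem exists_smaller (z : G.U) {Z : Scheme.{u}} (i : Z ⟶ G.U) (hi : Good G z i)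
    (w₀ : G.s.fiber z) (hw₀ : w₀ ∈ slicePts G z i) (hnc : ¬ IsClosed ({w₀} : Set (G.s.fiber z))) :
    ∃ (Z' : Scheme.{u}) (i' : Z' ⟶ G.U), Good G z i' ∧ slicePts G z i' ⊂ slicePts G z i := by
  classical
  obtain ⟨hci, hlfp, hflat, -⟩ := hi
  haveI := hci
  haveI := hlfp
  let X := pullback G.t i
  let h := srcMap G i
  let q := pullback.snd G.t i ≫ i ≫ toPZ G e
  haveI : LocallyOfFinitePresentation h :=
    inferInstanceAs (LocallyOfFinitePresentation (pullback.fst G.t i ≫ G.s))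
  haveI : QuasiCompact h := inferInstanceAs (QuasiCompact (pullback.fst G.t i ≫ G.s))
  obtain ⟨T, hTf, hT⟩ := exists_avoid_set h q z hflat
  obtain ⟨x₀, hx₀, hx₀z⟩ := slicePts_eq_fst z i w₀ hw₀
  obtain ⟨f, d, hd, hf, hfT⟩ := exists_hyper_avoid n (q '' insert x₀ T) ((hTf.insert x₀).image _)
  let D := Proj.basicOpen (CohB1.polyGrading n (ULift.{u} ℤ)) f
  obtain ⟨H, hH, hHci, hcut⟩ := exists_cut n hf
  obtain ⟨hlfpZ, hrangeZ, -⟩ := hcut (i ≫ toPZ G e)
  obtain ⟨-, hrangeX, hprinX⟩ := hcut q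
  haveI := hHci
  haveI := hlfpZ
  let j := pullback.fst (i ≫ toPZ G e) hH
  refine ⟨_, j ≫ i, ⟨inferInstance, inferInstance, fun x hx => ?_, ?_⟩, ?_⟩
  · let v : pullback G.t (j ≫ i) ⟶ X :=
      pullback.lift (pullback.fst G.t (j ≫ i)) (pullback.snd G.t (j ≫ i) ≫ j)
        (by rw [Category.assoc]; exact pullback.condition)
    have hv : IsPullback v (pullback.snd G.t (j ≫ i)) (pullback.snd G.t i) j :=
      IsPullback.of_right (by rw [pullback.lift_fst]; exact IsPullback.of_hasPullback G.t (j ≫ i))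
        (pullback.lift_snd _ _ _) (IsPullback.of_hasPullback G.t i)
    have hv' : IsPullback v (pullback.snd G.t (j ≫ i) ≫ pullback.snd (i ≫ toPZ G e) hH) q hH :=
      hv.paste_vert (IsPullback.of_hasPullback (i ≫ toPZ G e) hH)
    let ε := hv'.isoPullback
    have hεh : srcMap G (j ≫ i) = ε.hom ≫ pullback.fst q hH ≫ h := by
      refine Eq.trans ?_ (Category.assoc ε.hom (pullback.fst q hH) h)
      rw [show ε.hom ≫ pullback.fst q hH = v from hv'.isoPullback_hom_fst]
      simp [v, h, srcMap]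
    rw [hεh, FibFlat.flat_stalk_open_comp]
    refine hT f H hH inferInstance hrangeX hprinX (fun y hy => hfT _ ⟨y, Or.inr hy, rfl⟩) _ ?_
    rw [← hx, hεh]
    rfl
  · obtain ⟨w₁, hw₁, hw₁D⟩ : ∃ w, w₀ ⤳ w ∧ fibreToPZ G e z w ∉ D := by
      by_contra hall
      push Not at hall
      refine hnc ?_
      rw [show ({w₀} : Set (G.s.fiber z)) = closure {w₀} from Set.Subset.antisymm subset_closure fun w hw =>
        (eq_of_specializes G e he z (isAffineOpen_hyper n hd hf) (specializes_iff_mem_closure.2 hw) hall).symm]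
      exact isClosed_closure
    have hcl : IsClosed (slicePts G z i) :=
      i.isClosedEmbedding.isClosed_range.preimage (G.s.fiberι z ≫ G.t).continuous
    obtain ⟨v, hv⟩ := hw₁.mem_closed hcl hw₀
    obtain ⟨v', hv'⟩ : v ∈ Set.range j := by
      rw [hrangeZ]
      intro hD
      apply hw₁D
      show toPZ G e (G.t (G.s.fiberι z w₁)) ∈ D
      rw [← hv, ← Scheme.Hom.comp_apply]
      exact hD
    obtain ⟨x, -, hx⟩ := slicePts_eq_fst z (j ≫ i) w₁
      ⟨v', by rw [Scheme.Hom.comp_apply, hv']; exact hv⟩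
    exact ⟨x, hx⟩
  · refine ⟨fun w ⟨v, hv⟩ => ⟨j v, hv⟩, fun hsub => ?_⟩
    obtain ⟨v, hv⟩ := hsub hw₀
    have hjv : j v ∈ Set.range j := ⟨v, rfl⟩
    rw [hrangeZ] at hjv
    apply hjv
    have h0 : q x₀ ∈ D := hfT _ ⟨x₀, Or.inl rfl, rfl⟩
    show (i ≫ toPZ G e) (j v) ∈ D
    rw [Scheme.Hom.comp_apply, ← Scheme.Hom.comp_apply j i, hv, ← hx₀, ← Scheme.Hom.comp_apply,
      ← Scheme.Hom.comp_apply,
      show pullback.fst G.t i ≫ G.t ≫ toPZ G e = q from pullback.condition_assoc _]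
    exact h0

variable {G} in
include he in
/-- There is a slice quasi-finite over `z`. -/
theorem exists_good_qf (z : G.U) :
    ∃ (Z : Scheme.{u}) (i : Z ⟶ G.U), Good G z i ∧ ∀ x, srcMap G i x = z → (srcMap G i).QuasiFiniteAt x := by
  classical
  haveI : IsProper (G.s.fiberToSpecResidueField z) := MorphismProperty.pullback_snd (P := @IsProper) _ _ ‹_›
  haveI : IsLocallyNoetherian (G.s.fiber z) :=
    LocallyOfFiniteType.isLocallyNoetherian (G.s.fiberToSpecResidueField z)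
  haveI : CompactSpace (G.s.fiber z) := QuasiCompact.compactSpace_of_compactSpace (G.s.fiberToSpecResidueField z)
  haveI : IsNoetherian (G.s.fiber z) := {}
  haveI : Flat (srcMap G (𝟙 G.U)) := inferInstanceAs (Flat (pullback.fst G.t (𝟙 G.U) ≫ G.s))
  let 𝒦 : Set (TopologicalSpace.Closeds (G.s.fiber z)) :=
    {K | ∃ (Z : Scheme.{u}) (i : Z ⟶ G.U), Good G z i ∧ (K : Set _) = slicePts G z i}
  have hne : 𝒦.Nonempty := by
    refine ⟨⊤, G.U, 𝟙 _, ⟨inferInstance, inferInstance, fun x _ => Flat.stalkMap (srcMap G (𝟙 G.U)) x, ?_⟩,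
      (Set.eq_univ_of_forall (s := slicePts G z (𝟙 G.U)) fun w => ⟨G.t (G.s.fiberι z w), rfl⟩).symm⟩
    obtain ⟨w, hw⟩ : G.e z ∈ Set.range (G.s.fiberι z) := by
      rw [G.s.range_fiberι]
      show G.s (G.e z) = z
      rw [← Scheme.Hom.comp_apply, G.e_s]
      rfl
    obtain ⟨x, -, hx⟩ := slicePts_eq_fst z (𝟙 G.U) w ⟨G.t (G.s.fiberι z w), rfl⟩
    exact ⟨x, hx⟩
  obtain ⟨K, ⟨Z, i, hi, hK⟩, hmin⟩ := WellFounded.has_min (wellFounded_lt (α := TopologicalSpace.Closeds (G.s.fiber z))) 𝒦 hne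
  have hclosed : ∀ w ∈ slicePts G z i, IsClosed ({w} : Set (G.s.fiber z)) := by
    intro w hw
    by_contra hnc
    obtain ⟨Z', i', hi', hlt⟩ := exists_smaller G e he z i hi w hw hnc
    haveI := hi'.1
    let K' : TopologicalSpace.Closeds (G.s.fiber z) :=
      ⟨slicePts G z i', i'.isClosedEmbedding.isClosed_range.preimage (G.s.fiberι z ≫ G.t).continuous⟩
    exact hmin K' ⟨Z', i', hi', rfl⟩ (by rw [← SetLike.coe_ssubset_coe]; show slicePts G z i' ⊂ (K : Set _); rw [hK]; exact hlt)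
  refine ⟨Z, i, hi, fun x hx => ?_⟩
  haveI := hi.1
  have hfin : (slicePts G z i).Finite := by
    obtain ⟨Tc, hTc, hirr, hKe⟩ := NoetherianSpace.exists_finite_set_closeds_irreducible K
    haveI := hTc.fintype
    choose η hη using fun c : Tc => QuasiSober.sober (hirr c.1 c.2) c.1.isClosed
    refine (Set.finite_range η).subset fun w hw => ?_
    rw [← hK, hKe, TopologicalSpace.Closeds.coe_sSup, Set.sUnion_image,
      (hTc.isClosed_biUnion fun t _ => t.isClosed).closure_eq] at hw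
    obtain ⟨c, hc, hwc⟩ := Set.mem_iUnion₂.1 hw
    have hηs : η ⟨c, hc⟩ ∈ slicePts G z i := by
      rw [← hK]
      exact (show c ≤ K from hKe ▸ le_sSup hc) (hη ⟨c, hc⟩).mem
    refine ⟨⟨c, hc⟩, ?_⟩
    exact ((specializes_iff_mem_closure.1 ((hη ⟨c, hc⟩).specializes hwc)) |>
      (hclosed _ hηs).closure_subset_iff.2 subset_rfl).symm
  let h := srcMap G i
  haveI : LocallyOfFiniteType h := inferInstanceAs (LocallyOfFiniteType (pullback.fst G.t i ≫ G.s))
  haveI : IsClosedImmersion (pullback.fst G.t i) := inferInstance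
  have hpre : (h ⁻¹' {z}).Finite := by
    refine (hfin.image (G.s.fiberι z)).preimage (pullback.fst G.t i).isClosedEmbedding.injective.injOn |>.subset ?_
    intro y hy
    obtain ⟨w, hw, hwy⟩ := exists_fiber_of_srcMap z i y hy
    exact ⟨w, hw, hwy⟩
  rw [Scheme.Hom.quasiFiniteAt_iff_isOpen_singleton_asFiber]
  haveI : Finite (h.fiber (h x)) := by
    have : (h ⁻¹' {h x}).Finite := by rw [show h x = z from hx]; exact hpre
    exact @Finite.of_equiv _ _ this.to_subtype (h.fiberHomeo (h x)).symm.toEquiv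
  haveI : T1Space (h.fiber (h x)) := by
    refine ⟨fun a => ?_⟩
    obtain ⟨w, hw, hwa⟩ := exists_fiber_of_srcMap z i (h.fiberι (h x) a)
      (show srcMap G i (h.fiberι (h x) a) = z from ((h.range_fiberι (h x)).le ⟨a, rfl⟩).trans hx)
    have hemb : Topology.IsEmbedding ((h.fiberι (h x) ≫ pullback.fst G.t i) : h.fiber (h x) ⟶ G.R) :=
      (pullback.fst G.t i).isClosedEmbedding.isEmbedding.comp (h.fiberι (h x)).isEmbedding
    refine closure_subset_iff_isClosed.1 fun b hb => ?_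
    have hab : a ⤳ b := specializes_iff_mem_closure.2 hb
    have hb' := exists_fiber_of_srcMap z i (h.fiberι (h x) b)
      (show srcMap G i (h.fiberι (h x) b) = z from ((h.range_fiberι (h x)).le ⟨b, rfl⟩).trans hx)
    obtain ⟨w', hw', hwb⟩ := hb'
    have hww : w ⤳ w' := (G.s.fiberι z).isEmbedding.toIsInducing.specializes_iff.1 (by
      rw [hwa, hwb]; exact (hab.map (h.fiberι (h x)).continuous).map (pullback.fst G.t i).continuous)
    have : w' = w := (hclosed w hw).closure_subset_iff.2 subset_rfl (specializes_iff_mem_closure.1 hww)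
    refine hemb.injective ?_
    show (h.fiberι (h x) ≫ pullback.fst G.t i) b = (h.fiberι (h x) ≫ pullback.fst G.t i) a
    rw [Scheme.Hom.comp_apply, Scheme.Hom.comp_apply, ← hwa, ← hwb, this]
  exact isOpen_discrete _

variable {G} in
include he in
/-- Around every point there is a saturated open over which a closed slice is a finite quasi-section. -/
theorem exists_finite_cut (z : G.U) (B : S.Opens) (hzB : G.pU z ∈ B) :
    ∃ (W : G.U.Opens) (_ : IsInv G W) (Z : Scheme.{u}) (i : Z ⟶ G.U), z ∈ W ∧ W ≤ G.pU ⁻¹ᵁ B ∧ IsClosedImmersion i ∧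
      LocallyOfFinitePresentation i ∧
      IsFinite (srcMap G i ∣_ W) ∧ Flat (srcMap G i ∣_ W) ∧
      LocallyOfFinitePresentation (srcMap G i ∣_ W) ∧ Surjective (srcMap G i ∣_ W) := by
  obtain ⟨Z, i, ⟨hci, hlfp, hflat, x₀, hx₀⟩, hqf⟩ := exists_good_qf e he z
  haveI := hci
  haveI := hlfp
  haveI := flat_t G
  let h := srcMap G i
  let g := pullback.snd G.t i
  haveI : LocallyOfFinitePresentation h := inferInstanceAs (LocallyOfFinitePresentation (pullback.fst G.t i ≫ G.s))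
  haveI : IsProper h := inferInstanceAs (IsProper (pullback.fst G.t i ≫ G.s))
  let Gd : (pullback G.t i).Opens := ⟨{x | (h.stalkMap x).hom.Flat ∧ h.QuasiFiniteAt x},
    (FlatLocus.isOpen_flat_locus h).inter (Scheme.Hom.isOpen_quasiFiniteAt h)⟩
  let G₀ : (pullback G.t i).Opens := ⟨{x | (h.stalkMap x).hom.Flat}, FlatLocus.isOpen_flat_locus h⟩
  haveI : Flat (G₀.ι ≫ h) := Flat.of_stalkMap _ fun y => (FibFlat.flat_stalk_open_comp G₀.ι h y).2 y.2
  haveI : LocallyOfFinitePresentation (G₀.ι ≫ h) := inferInstance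
  have hopen : IsOpen (h '' Gd) := by
    have e : h '' Gd = (G₀.ι ≫ h) '' (G₀.ι ⁻¹ᵁ Gd : G₀.toScheme.Opens) := by
      ext u
      constructor
      · rintro ⟨x, hx, rfl⟩
        exact ⟨⟨x, hx.1⟩, hx, rfl⟩
      · rintro ⟨x, hx, rfl⟩
        exact ⟨x.1, hx, rfl⟩
    rw [e]
    exact (G₀.ι ≫ h).isOpenMap _ (G₀.ι ⁻¹ᵁ Gd).2
  let W₀ : G.U.Opens := ⟨(h '' Gd) ∩ (h '' (Gd : Set _)ᶜ)ᶜ,
    hopen.inter (h.isClosedMap _ Gd.2.isClosed_compl).isOpen_compl⟩
  have hW₀ : ∀ u, u ∈ W₀ ↔ (∃ x, h x = u) ∧ ∀ x, h x = u → x ∈ Gd := fun u => by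
    constructor
    · rintro ⟨⟨x, -, hx⟩, h2⟩
      exact ⟨⟨x, hx⟩, fun y hy => by_contra fun hn => h2 ⟨y, hn, hy⟩⟩
    · rintro ⟨⟨x, hx⟩, h2⟩
      exact ⟨⟨x, h2 x hx, hx⟩, fun ⟨y, hy, e⟩ => hy (h2 y e)⟩
  -- points of the slice over equivalent points have the same image in the slice
  have key : ∀ r : G.R, ∀ x, h x = G.s r → ∃ x', h x' = G.t r ∧ g x' = g x := by
    intro r x hx
    have hfst : G.s (pullback.fst G.t i x) = G.s r := by rw [← hx]; rfl
    obtain ⟨r', hr₁, hr₂⟩ := GrpdLib.exists_inv G r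
    obtain ⟨c, hc₁, hc₂⟩ := exists_comp (G := G) (pullback.fst G.t i x) r' (by rw [hfst, hr₁])
    obtain ⟨x', hx₁, hx₂⟩ := Scheme.Pullback.exists_preimage_pullback (f := G.t) (g := i) c (g x)
      (by rw [hc₁, ← Scheme.Hom.comp_apply, pullback.condition, Scheme.Hom.comp_apply])
    exact ⟨x', by show G.s (pullback.fst G.t i x') = _; rw [hx₁, hc₂, hr₂], hx₂⟩
  have hinv₀ : IsInv G W₀ := isInv_of_mem fun r hr => by
    rw [hW₀] at hr ⊢
    obtain ⟨⟨x, hx⟩, h2⟩ := hr
    obtain ⟨x', hx', -⟩ := key r x hx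
    refine ⟨⟨x', hx'⟩, fun y hy => ?_⟩
    obtain ⟨r', hr₁, hr₂⟩ := GrpdLib.exists_inv G r
    obtain ⟨y', hy', hgy⟩ := key r' y (hy.trans hr₂.symm)
    rw [hr₁] at hy'
    exact good_invariant G i hgy (h2 y' hy')
  let W : G.U.Opens := W₀ ⊓ G.pU ⁻¹ᵁ B
  have hinv : IsInv G W := isInv_of_mem fun r hr => ⟨(hinv₀.mem_iff r).1 hr.1, by
    show G.pU (G.t r) ∈ B
    rw [← Scheme.Hom.comp_apply, G.t_over, ← G.s_over, Scheme.Hom.comp_apply]
    exact hr.2⟩
  have hW : ∀ u, u ∈ W → (∃ x, h x = u) ∧ ∀ x, h x = u → x ∈ Gd := fun u hu => (hW₀ u).1 hu.1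
  refine ⟨W, hinv, Z, i, ⟨(hW₀ z).2 ⟨⟨x₀, hx₀⟩, fun x hx => ⟨hflat x hx, hqf x hx⟩⟩, hzB⟩,
    fun u hu => hu.2, hci, hlfp, ?_, ?_,
    IsZariskiLocalAtTarget.restrict ‹_› W, ?_⟩
  · haveI : IsProper (h ∣_ W) := IsZariskiLocalAtTarget.restrict ‹_› W
    refine (IsFinite.iff_isProper_and_locallyQuasiFinite _).2 ⟨inferInstance, ?_⟩
    have hr : Set.range (h ⁻¹ᵁ W).ι ⊆ Set.range h.quasiFiniteLocus.ι := by
      rintro _ ⟨y, rfl⟩
      rw [Scheme.Opens.range_ι]
      exact ((hW (h y.1) y.2).2 y.1 rfl).2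
    haveI : LocallyQuasiFinite ((h ∣_ W) ≫ W.ι) := by
      rw [morphismRestrict_ι, ← IsOpenImmersion.lift_fac h.quasiFiniteLocus.ι (h ⁻¹ᵁ W).ι hr, Category.assoc]
      infer_instance
    exact LocallyQuasiFinite.of_comp (h ∣_ W) W.ι
  · refine Flat.of_stalkMap _ fun y => ?_
    have := (hW (h y.1) y.2).2 y.1 rfl
    exact RingHom.Flat.respectsIso.arrow_mk_iso_iff (morphismRestrictStalkMap h W y) |>.2 this.1
  · refine ⟨fun u => ?_⟩
    obtain ⟨⟨x, hx⟩, -⟩ := hW u.1 u.2
    refine ⟨⟨x, by show h x ∈ W; rw [hx]; exact u.2⟩, W.ι.isOpenEmbedding.injective ?_⟩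
    rw [← Scheme.Hom.comp_apply, morphismRestrict_ι]
    exact hx

end Groth.Agent.GrpQLib
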