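import Groth.Agent.GrpQLib.Image

/-!
# A dense saturated open with a flat stabilizer, and the quotient over it
-/

set_option backward.isDefEq.respectTransparency false
set_option backward.isDefEq.respectTransparency.types false

universe u

open CategoryTheory CategoryTheory.Limits AlgebraicGeometry Grpd TopologicalSpace

noncomputable section

namespace Groth.Agent.GrpQLib

open GrpdLib

variable {S : Scheme.{u}} (G : GroupoidScheme S) (W : G.U.Opens) (hW : GrpdLib.IsInv G W)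

/-- The stabilizer of a restriction. -/
theorem isPullback_stabilizer_restrict :
    ∃ κ, IsPullback κ (restrict G W hW).stabilizerToU G.stabilizerToU W.ι := by
  let G' := restrict G W hW
  have ht : stabι G' ≫ (G.s ⁻¹ᵁ W).ι ≫ G.t = G'.stabilizerToU ≫ W.ι := by
    rw [← stabι_t G', Category.assoc]; exact congrArg (stabι G' ≫ ·) (resT_ι G W hW).symm
  have hs : stabι G' ≫ (G.s ⁻¹ᵁ W).ι ≫ G.s = G'.stabilizerToU ≫ W.ι := by
    rw [← stabι_s G', Category.assoc]; exact congrArg (stabι G' ≫ ·) (resS_ι G W).symm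
  obtain ⟨κ, hκ1, hκ2⟩ := exists_stab_lift G (stabι G' ≫ (G.s ⁻¹ᵁ W).ι) (by
    simp only [Category.assoc, ht, hs])
  rw [Category.assoc, ht] at hκ2
  refine ⟨κ, ⟨⟨hκ2⟩, ?_⟩⟩
  have key : ∀ c : PullbackCone G.stabilizerToU W.ι, ∃ l, l ≫ κ = c.fst ∧ l ≫ G'.stabilizerToU = c.snd ∧
      ∀ m, m ≫ κ = c.fst → m = l := by
    intro c
    have hsW : (c.fst ≫ stabι G) ≫ G.s = c.snd ≫ W.ι := by
      rw [Category.assoc, stabι_s]; exact c.condition
    have htW : (c.fst ≫ stabι G) ≫ G.t = c.snd ≫ W.ι := by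
      rw [Category.assoc, stabι_t]; exact c.condition
    have hr : Set.range (c.fst ≫ stabι G) ⊆ Set.range (G.s ⁻¹ᵁ W).ι := by
      rintro _ ⟨z, rfl⟩
      rw [Scheme.Opens.range_ι]
      show G.s ((c.fst ≫ stabι G) z) ∈ W
      rw [← Scheme.Hom.comp_apply, hsW, Scheme.Hom.comp_apply]
      exact (c.snd z).2
    let a := IsOpenImmersion.lift (G.s ⁻¹ᵁ W).ι _ hr
    have ha : a ≫ (G.s ⁻¹ᵁ W).ι = c.fst ≫ stabι G := IsOpenImmersion.lift_fac _ _ _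
    have hat : a ≫ G'.t = c.snd := by
      rw [← cancel_mono W.ι, Category.assoc]
      exact (congrArg (a ≫ ·) (resT_ι G W hW)).trans (by rw [reassoc_of% ha, ← Category.assoc, htW])
    have has : a ≫ G'.s = c.snd := by
      rw [← cancel_mono W.ι, Category.assoc]
      exact (congrArg (a ≫ ·) (resS_ι G W)).trans (by rw [reassoc_of% ha, ← Category.assoc, hsW])
    obtain ⟨z, hz1, hz2⟩ := exists_stab_lift G' a (hat.trans has.symm)
    refine ⟨z, stab_ext G ?_, hz2.trans hat, fun m hm => stab_ext G' ?_⟩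
    · rw [Category.assoc, hκ1, reassoc_of% hz1, ha]
    · rw [hz1, ← cancel_mono (G.s ⁻¹ᵁ W).ι, ha, Category.assoc]
      show m ≫ stabι G' ≫ (G.s ⁻¹ᵁ W).ι = c.fst ≫ stabι G
      rw [← hκ1, reassoc_of% hm]
  choose l h1 h2 h3 using key
  exact ⟨PullbackCone.IsLimit.mk _ l h1 h2 fun c m hm _ => h3 c m hm⟩

/-- A dense saturated open over which the stabilizer is flat. -/
theorem exists_flat_stabilizer [IsNoetherian G.U] [IsLocallyNoetherian S] [IsReduced G.U] [Flat G.s]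
    [LocallyOfFinitePresentation G.s] [QuasiCompact G.s] [LocallyOfFiniteType G.pU] :
    ∃ (W : G.U.Opens) (hW : GrpdLib.IsInv G W), Dense (W : Set G.U) ∧ Flat (restrict G W hW).stabilizerToU := by
  haveI := flat_t G
  haveI := lfp_t G
  haveI : LocallyOfFiniteType (pullback.fst G.pU G.pU) := MorphismProperty.pullback_fst _ _ inferInstance
  haveI : IsLocallyNoetherian (pullback G.pU G.pU) := LocallyOfFiniteType.isLocallyNoetherian (pullback.fst G.pU G.pU)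
  haveI : LocallyOfFiniteType (G.j ≫ pullback.fst G.pU G.pU) := by rw [j_fst]; infer_instance
  haveI : LocallyOfFiniteType G.j := locallyOfFiniteType_of_comp _ (pullback.fst G.pU G.pU)
  haveI : CompactSpace G.R := QuasiCompact.compactSpace_of_compactSpace G.s
  haveI : QuasiCompact G.j := inferInstance
  haveI : LocallyOfFiniteType G.stabilizerToU := inferInstanceAs (LocallyOfFiniteType (pullback.snd G.j G.diag))
  haveI : QuasiCompact G.stabilizerToU := inferInstanceAs (QuasiCompact (pullback.snd G.j G.diag))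
  obtain ⟨U₀, hd, hfl, -⟩ := FlatMisc.exists_dense_flat G.stabilizerToU
  let W : G.U.Opens := ⟨sat G U₀, G.t.isOpenMap _ (U₀.isOpen.preimage G.s.continuous)⟩
  have hW : GrpdLib.IsInv G W := Opens.ext (preimage_sat G U₀)
  refine ⟨W, hW, hd.mono (subset_sat G _), ?_⟩
  obtain ⟨κ, hκ⟩ := isPullback_stabilizer_restrict G W hW
  have e := (isPullback_morphismRestrict G.stabilizerToU W).flip
  rw [← hκ.isoIsPullback_hom_snd _ _ e, MorphismProperty.cancel_left_of_respectsIso (P := @Flat)]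
  obtain ⟨a, b, ha, hb⟩ := exists_stabilizer_pullbacks G
  let O : G.R.Opens := G.s ⁻¹ᵁ U₀
  have hOt : O ≤ G.t ⁻¹ᵁ W := fun r hr => ⟨r, hr, rfl⟩
  obtain ⟨ls, hls⟩ := isPullback_restrict ha U₀ O le_rfl
  obtain ⟨lt, hlt⟩ := isPullback_restrict hb W O hOt
  haveI : Flat (pullback.snd G.stabilizerToU G.s ∣_ O) := MorphismProperty.of_isPullback hls hfl
  haveI : Flat (G.t.resLE W O hOt) := by rw [Scheme.Hom.resLE]; infer_instance
  haveI : LocallyOfFinitePresentation (G.t.resLE W O hOt) := by rw [Scheme.Hom.resLE]; infer_instance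
  haveI hcs : Surjective (G.t.resLE W O hOt) := ⟨fun w => by
    obtain ⟨r, hr, hrw⟩ := w.2
    exact ⟨⟨r, hr⟩, W.ι.isOpenEmbedding.injective (by
      rw [← Scheme.Hom.comp_apply, Scheme.Hom.resLE_comp_ι]; exact hrw)⟩⟩
  haveI : Surjective lt := MorphismProperty.of_isPullback hlt.flip hcs
  haveI : Flat lt := MorphismProperty.of_isPullback hlt.flip ‹Flat (G.t.resLE W O hOt)›
  exact GrpdLib.flat_of_flat_comp lt _ (by rw [hlt.w]; infer_instance)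

/-- The quotient over a dense saturated open, flat stabilizer or reduced objects. -/
theorem exists_dense_flat_quotient [IsNoetherian S] (G : GroupoidScheme S) [Flat G.s] [LocallyOfFiniteType G.s]
    [QuasiCompact G.s] [LocallyOfFiniteType G.pU] [QuasiCompact G.pU] [IsReduced G.U] :
    ∃ (W : G.U.Opens) (hW : G.t ⁻¹ᵁ W = G.s ⁻¹ᵁ W), Dense (W : Set G.U) ∧
      ∃ (V : Scheme.{u}) (p : (W : Scheme.{u}) ⟶ V)
        (w : G.t.resLE W (G.s ⁻¹ᵁ W) hW.ge ≫ p = (G.s ∣_ W) ≫ p) (q : V ⟶ S),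
        Nonempty (IsColimit (Cofork.ofπ p w)) ∧ p ≫ q = W.ι ≫ G.pU ∧
        Surjective p ∧ Flat p ∧ LocallyOfFinitePresentation p ∧ LocallyOfFiniteType q ∧ QuasiCompact q := by
  haveI : IsLocallyNoetherian G.U := LocallyOfFiniteType.isLocallyNoetherian G.pU
  haveI : CompactSpace G.U := QuasiCompact.compactSpace_of_compactSpace G.pU
  haveI : IsNoetherian G.U := ⟨⟩
  haveI : LocallyOfFinitePresentation G.s := inferInstance
  obtain ⟨W₀, hW₀, hd₀, hflat⟩ := exists_flat_stabilizer G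
  let G' := restrict G W₀ hW₀
  haveI : Flat G'.s := IsZariskiLocalAtTarget.restrict ‹Flat G.s› W₀
  haveI : LocallyOfFiniteType G'.s := IsZariskiLocalAtTarget.restrict ‹LocallyOfFiniteType G.s› W₀
  haveI : QuasiCompact G'.s := IsZariskiLocalAtTarget.restrict ‹QuasiCompact G.s› W₀
  haveI : LocallyOfFiniteType G'.pU := inferInstanceAs (LocallyOfFiniteType (W₀.ι ≫ G.pU))
  haveI : QuasiCompact G'.pU := inferInstanceAs (QuasiCompact (W₀.ι ≫ G.pU))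
  obtain ⟨W₁, hW₁, hd₁, V, p, w₁, q, ⟨hc⟩, hpq, hs, hf, hp, hq, hqc⟩ :=
    exists_dense_quotient_of_flat_stabilizer G' hflat
  let W : G.U.Opens := W₀.ι ''ᵁ W₁
  have hmem : ∀ x : G.U, x ∈ W ↔ ∃ h : x ∈ W₀, (⟨x, h⟩ : W₀.toScheme) ∈ W₁ := by
    intro x
    constructor
    · rintro ⟨y, hy, rfl⟩; exact ⟨y.2, hy⟩
    · rintro ⟨h, hx⟩; exact ⟨⟨x, h⟩, hx, rfl⟩
  have hG's : ∀ r : (G.s ⁻¹ᵁ W₀).toScheme, W₀.ι (G'.s r) = G.s ((G.s ⁻¹ᵁ W₀).ι r) := fun r =>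
    congrArg (fun φ => φ r) (resS_ι G W₀)
  have hG't : ∀ r : (G.s ⁻¹ᵁ W₀).toScheme, W₀.ι (G'.t r) = G.t ((G.s ⁻¹ᵁ W₀).ι r) := fun r =>
    congrArg (fun φ => φ r) (resT_ι G W₀ hW₀)
  have hsmem : ∀ r : (G.s ⁻¹ᵁ W₀).toScheme, G'.s r ∈ W₁ ↔ G.s ((G.s ⁻¹ᵁ W₀).ι r) ∈ W := fun r => by
    rw [← hG's]
    exact ⟨fun h => ⟨_, h, rfl⟩, fun ⟨y, hy, e⟩ => W₀.ι.isOpenEmbedding.injective e ▸ hy⟩
  have htmem : ∀ r : (G.s ⁻¹ᵁ W₀).toScheme, G'.t r ∈ W₁ ↔ G.t ((G.s ⁻¹ᵁ W₀).ι r) ∈ W := fun r => by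
    rw [← hG't]
    exact ⟨fun h => ⟨_, h, rfl⟩, fun ⟨y, hy, e⟩ => W₀.ι.isOpenEmbedding.injective e ▸ hy⟩
  have h1 : ∀ r : (G.s ⁻¹ᵁ W₀).toScheme, G'.t r ∈ W₁ ↔ G'.s r ∈ W₁ := fun r => by
    rw [show G'.t r ∈ W₁ ↔ r ∈ G'.t ⁻¹ᵁ W₁ from Iff.rfl, hW₁]; rfl
  have hW : G.t ⁻¹ᵁ W = G.s ⁻¹ᵁ W := by
    ext r
    constructor
    · intro hr
      have h0 : r ∈ G.s ⁻¹ᵁ W₀ := (hW₀.mem_iff r).2 ((hmem _).1 hr).1
      exact (hsmem ⟨r, h0⟩).1 ((h1 _).1 ((htmem ⟨r, h0⟩).2 hr))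
    · intro hr
      have h0 : r ∈ G.s ⁻¹ᵁ W₀ := ((hmem _).1 hr).1
      exact (htmem ⟨r, h0⟩).1 ((h1 _).2 ((hsmem ⟨r, h0⟩).2 hr))
  have hdW : Dense (W : Set G.U) := by
    rw [dense_iff_inter_open]
    intro O hO hne
    obtain ⟨x, hx, hx0⟩ := hd₀.inter_open_nonempty O hO hne
    obtain ⟨y, hy, hy1⟩ := hd₁.inter_open_nonempty (W₀.ι ⁻¹' O) (hO.preimage W₀.ι.continuous) ⟨⟨x, hx0⟩, hx⟩
    exact ⟨W₀.ι y, hy, ⟨y, hy1, rfl⟩⟩
  -- isomorphisms of objects and arrows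
  let eU : W₁.toScheme ≅ W.toScheme := W₀.ι.isoImage W₁
  have heU : eU.hom ≫ W.ι = W₁.ι ≫ W₀.ι := Scheme.Hom.isoImage_hom_ι _ _
  have hr : Set.range ((G'.s ⁻¹ᵁ W₁).ι ≫ (G.s ⁻¹ᵁ W₀).ι) ⊆ Set.range (G.s ⁻¹ᵁ W).ι := by
    rintro _ ⟨r, rfl⟩
    rw [Scheme.Opens.range_ι, Scheme.Hom.comp_apply]
    exact (hsmem _).1 r.2
  let eR := IsOpenImmersion.lift (G.s ⁻¹ᵁ W).ι _ hr
  have heR : eR ≫ (G.s ⁻¹ᵁ W).ι = (G'.s ⁻¹ᵁ W₁).ι ≫ (G.s ⁻¹ᵁ W₀).ι := IsOpenImmersion.lift_fac _ _ _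
  haveI : Surjective eR := ⟨fun r => by
    have h0 : r.1 ∈ G.s ⁻¹ᵁ W₀ := ((hmem _).1 r.2).1
    refine ⟨⟨⟨r.1, h0⟩, (hsmem ⟨r.1, h0⟩).2 r.2⟩, (G.s ⁻¹ᵁ W).ι.isOpenEmbedding.injective ?_⟩
    rw [← Scheme.Hom.comp_apply, heR]; rfl⟩
  have hes : eR ≫ (G.s ∣_ W) = (G'.s ∣_ W₁) ≫ eU.hom := by
    rw [← cancel_mono W.ι, Category.assoc, morphismRestrict_ι, reassoc_of% heR, Category.assoc, heU,
      morphismRestrict_ι_assoc]
    exact congrArg ((G'.s ⁻¹ᵁ W₁).ι ≫ ·) (resS_ι G W₀).symm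
  have het : eR ≫ G.t.resLE W (G.s ⁻¹ᵁ W) hW.ge = G'.t.resLE W₁ (G'.s ⁻¹ᵁ W₁) hW₁.ge ≫ eU.hom := by
    rw [← cancel_mono W.ι, Category.assoc, Scheme.Hom.resLE_comp_ι, reassoc_of% heR, Category.assoc, heU,
      Scheme.Hom.resLE_comp_ι_assoc]
    exact congrArg ((G'.s ⁻¹ᵁ W₁).ι ≫ ·) (resT_ι G W₀ hW₀).symm
  haveI : IsOpenImmersion eR := by
    haveI : IsOpenImmersion (eR ≫ (G.s ⁻¹ᵁ W).ι) := by rw [heR]; infer_instance
    exact IsOpenImmersion.of_comp eR (G.s ⁻¹ᵁ W).ι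
  haveI : IsIso eR := (isIso_iff_isOpenImmersion_and_surjective _).mpr ⟨inferInstance, inferInstance⟩
  have w : G.t.resLE W (G.s ⁻¹ᵁ W) hW.ge ≫ eU.inv ≫ p = (G.s ∣_ W) ≫ eU.inv ≫ p := by
    rw [← cancel_epi eR, reassoc_of% het, reassoc_of% hes, Iso.hom_inv_id_assoc, w₁]
  refine ⟨W, hW, hdW, V, eU.inv ≫ p, w, q, ⟨?_⟩, ?_, inferInstance, inferInstance, inferInstance, hq, hqc⟩
  · refine Cofork.IsColimit.mk _ (fun c => hc.desc (Cofork.ofπ (eU.hom ≫ c.π) ?_)) (fun c => ?_) fun c l hl => ?_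
    · rw [← reassoc_of% het, ← reassoc_of% hes]
      exact congrArg (eR ≫ ·) c.condition
    · show (eU.inv ≫ p) ≫ _ = c.π
      rw [Category.assoc, Iso.inv_comp_eq]
      exact hc.fac _ WalkingParallelPair.one
    · refine Cofork.IsColimit.hom_ext hc ?_
      refine Eq.trans ?_ (hc.fac (Cofork.ofπ (eU.hom ≫ c.π) _) WalkingParallelPair.one).symm
      show p ≫ l = eU.hom ≫ c.π
      rw [← hl]; simp
  · rw [Category.assoc, hpq, Iso.inv_comp_eq, reassoc_of% heU]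
    rfl

end Groth.Agent.GrpQLib
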