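import Groth.Agent.AlgSpDec.SliceScheme
import Groth.Agent.GrpQLib.SliceAlg
import Groth.Agent.GrpQLib.Translate

/-!
# Slicing a groupoid with quasi-finite graph
-/

set_option backward.isDefEq.respectTransparency false
set_option backward.isDefEq.respectTransparency.types false

universe u

open CategoryTheory CategoryTheory.Limits AlgebraicGeometry Grpd TensorProduct

noncomputable section

namespace Groth.Agent.GrpQLib

open GrpdLib

theorem exists_slice_ringHom {O O' T : Type u} [CommRing O] [CommRing O'] [CommRing T]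
    (ρ : O →+* T) (τ : O' →+* T) (hρfp : ρ.FinitePresentation) (hρ : ρ.Flat) (hτ : τ.FiniteType)
    (hinj : ∀ P P' : Ideal T, P.IsPrime → P'.IsPrime → P ≤ P' →
      (∀ c ∈ Subring.closure (Set.range ρ ∪ Set.range τ), c ∈ P ↔ c ∈ P') → P = P')
    (p : Ideal O) [p.IsMaximal] (Q₀ : PrimeSpectrum T) (hQ₀ : Q₀.asIdeal.comap ρ = p) :
    ∃ (g : T) (J : Ideal O') (A : Type u) (_ : CommRing A) (π : Localization.Away g →+* A)
      (ι : O' ⧸ J →+* A),
      IsPushout (CommRingCat.ofHom (Ideal.Quotient.mk J))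
        (CommRingCat.ofHom ((algebraMap T (Localization.Away g)).comp τ)) (CommRingCat.ofHom ι) (CommRingCat.ofHom π) ∧
      J.FG ∧ (π.comp ((algebraMap T (Localization.Away g)).comp ρ)).Flat ∧
      ∃ Q : PrimeSpectrum A, Q.asIdeal.comap (π.comp ((algebraMap T (Localization.Away g)).comp ρ)) = p ∧
        (π.comp ((algebraMap T (Localization.Away g)).comp ρ)).QuasiFiniteAt Q.asIdeal := by
  letI := ρ.toAlgebra
  letI := τ.toAlgebra
  have : Algebra.FinitePresentation O T := hρfp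
  have : Module.Flat O T := hρ
  have : Algebra.FiniteType O' T := hτ
  have : Q₀.asIdeal.LiesOver p := ⟨hQ₀.symm⟩
  obtain ⟨g, J, hJ, hflat, Q, hQ, hQp, hqf⟩ := Slice.exists_slice (O := O) (O' := O') hinj p Q₀.asIdeal
  let Tg := Localization.Away g
  let e : O' →+* Tg := (algebraMap T Tg).comp τ
  have he : algebraMap O' Tg = e := rfl
  have hρg : (Ideal.Quotient.mk (J.map (algebraMap O' Tg))).comp ((algebraMap T Tg).comp ρ) =
      algebraMap O (Tg ⧸ J.map (algebraMap O' Tg)) := rfl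
  refine ⟨g, J, Tg ⧸ J.map (algebraMap O' Tg), inferInstance, Ideal.Quotient.mk _,
    Ideal.quotientMap (J.map (algebraMap O' Tg)) (algebraMap O' Tg) Ideal.le_comap_map,
    AlgSpDec.Slice.isPushout_quotient (algebraMap O' Tg) J, hJ, ?_, ⟨Q, hQ⟩, ?_, ?_⟩
  · rw [hρg]; exact RingHom.flat_algebraMap_iff.2 hflat
  · rw [hρg]; exact hQp.over.symm
  · rw [hρg]
    unfold RingHom.QuasiFiniteAt
    convert hqf
    exact Algebra.algebra_ext _ _ fun r => rfl



variable {S : Scheme.{u}} (G : GroupoidScheme S)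

/-- Slicing at a closed point of an affine open. -/
theorem exists_slice_at [Flat G.s] [LocallyOfFinitePresentation G.s] [LocallyOfFinitePresentation G.t]
    [LocallyQuasiFinite G.j] (V : G.U.Opens) (hV : IsAffineOpen V) (B : S.Opens) (hB : IsAffineOpen B)
    (hVB : V ≤ G.pU ⁻¹ᵁ B) (u : G.U) (huV : u ∈ V) (hu : IsClosed ({⟨u, huV⟩} : Set ↥V)) :
    ∃ (Z : Scheme.{u}) (_ : IsAffine Z) (g : Z ⟶ G.U) (p : ↥(pullback G.t g)),
      LocallyOfFinitePresentation g ∧ srcMap G g p = u ∧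
      ((srcMap G g).stalkMap p).hom.Flat ∧ (srcMap G g).QuasiFiniteAt p := by
  let r₀ := G.e u
  have hrs : G.s r₀ = u := by
    show (G.e ≫ G.s) u = u
    rw [G.e_s]; rfl
  have hrt : G.t r₀ = u := by
    show (G.e ≫ G.t) u = u
    rw [G.e_t]; rfl
  obtain ⟨N, hN, hrN, hNV⟩ := exists_isAffineOpen_mem_and_subset (U := G.s ⁻¹ᵁ V ⊓ G.t ⁻¹ᵁ V) (x := r₀)
    ⟨show G.s r₀ ∈ V by rw [hrs]; exact huV, show G.t r₀ ∈ V by rw [hrt]; exact huV⟩
  have hNs : N ≤ G.s ⁻¹ᵁ V := fun x hx => (hNV hx).1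
  have hNt : N ≤ G.t ⁻¹ᵁ V := fun x hx => (hNV hx).2
  let A₀ := Γ(S, B)
  let O := Γ(G.U, V)
  let T := Γ(G.R, N)
  let a : A₀ ⟶ O := G.pU.appLE B V hVB
  let ρ : O →+* T := (G.s.appLE V N hNs).hom
  let τ : O →+* T := (G.t.appLE V N hNt).hom
  have hat : a ≫ G.s.appLE V N hNs = a ≫ G.t.appLE V N hNt := by
    simp only [a, Scheme.Hom.appLE_comp_appLE, G.s_over, G.t_over]
  letI : Algebra A₀ O := a.hom.toAlgebra
  letI : Algebra A₀ T := (ρ.comp a.hom).toAlgebra
  let ρA : O →ₐ[A₀] T := { ρ with commutes' := fun x => rfl }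
  let τA : O →ₐ[A₀] T := { τ with commutes' := fun x => (congrArg (fun φ => φ.hom x) hat).symm }
  let Φ : O ⊗[A₀] O →+* T := (Algebra.TensorProduct.lift ρA τA fun _ _ => Commute.all _ _).toRingHom
  have hl : CommRingCat.ofHom (Algebra.TensorProduct.includeLeftRingHom : O →+* O ⊗[A₀] O) ≫
      CommRingCat.ofHom Φ = G.s.appLE V N hNs :=
    CommRingCat.hom_ext (RingHom.ext fun x => show Φ (x ⊗ₜ[A₀] 1) = ρ x by simp [Φ, ρA])
  have hr : CommRingCat.ofHom ((Algebra.TensorProduct.includeRight : O →ₐ[A₀] O ⊗[A₀] O).toRingHom) ≫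
      CommRingCat.ofHom Φ = G.t.appLE V N hNt :=
    CommRingCat.hom_ext (RingHom.ext fun x => show Φ (1 ⊗ₜ[A₀] x) = τ x by simp [Φ, τA])
  have hsq_s : Spec.map (G.s.appLE V N hNs) ≫ hV.fromSpec = hN.fromSpec ≫ G.s :=
    hV.SpecMap_appLE_fromSpec G.s hN hNs
  have hsq_t : Spec.map (G.t.appLE V N hNt) ≫ hV.fromSpec = hN.fromSpec ≫ G.t :=
    hV.SpecMap_appLE_fromSpec G.t hN hNt
  -- the graph on `N` factors through `Spec (O ⊗ O)`
  let m : Spec (CommRingCat.of (O ⊗[A₀] O)) ⟶ pullback G.pU G.pU := pullback.lift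
    (Spec.map (CommRingCat.ofHom ((Algebra.TensorProduct.includeRight : O →ₐ[A₀] O ⊗[A₀] O).toRingHom)) ≫ hV.fromSpec)
    (Spec.map (CommRingCat.ofHom (Algebra.TensorProduct.includeLeftRingHom : O →+* O ⊗[A₀] O)) ≫ hV.fromSpec) (by
      rw [Category.assoc, Category.assoc, ← hB.SpecMap_appLE_fromSpec G.pU hV hVB, ← Spec.map_comp_assoc,
        ← Spec.map_comp_assoc]
      congr 2
      ext x
      exact ((Algebra.TensorProduct.includeRight : O →ₐ[A₀] O ⊗[A₀] O).commutes x))
  have hj : hN.fromSpec ≫ G.j = Spec.map (CommRingCat.ofHom Φ) ≫ m := by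
    apply pullback.hom_ext
    · simp only [m, Category.assoc, GrpdLib.j_fst, pullback.lift_fst, ← hsq_t]
      rw [← Spec.map_comp_assoc, hr]
    · simp only [m, Category.assoc, GrpdLib.j_snd, pullback.lift_snd, ← hsq_s]
      rw [← Spec.map_comp_assoc, hl]
  have hinj : ∀ P P' : Ideal T, P.IsPrime → P'.IsPrime → P ≤ P' →
      (∀ c ∈ Subring.closure (Set.range ρ ∪ Set.range τ), c ∈ P ↔ c ∈ P') → P = P' := by
    intro P P' hP hP' hle h
    have hΦ : ∀ z, Φ z ∈ Subring.closure (Set.range ρ ∪ Set.range τ) := by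
      intro z
      induction z using TensorProduct.induction_on with
      | zero => simp
      | add a b ha hb => rw [map_add]; exact add_mem ha hb
      | tmul a b =>
        rw [show Φ (a ⊗ₜ b) = ρ a * τ b from Algebra.TensorProduct.lift_tmul _ _ _ a b]
        exact mul_mem (Subring.subset_closure (Or.inl ⟨a, rfl⟩)) (Subring.subset_closure (Or.inr ⟨b, rfl⟩))
    let x : Spec T := (⟨P, hP⟩ : PrimeSpectrum T)
    let y : Spec T := (⟨P', hP'⟩ : PrimeSpectrum T)
    have hxy : Spec.map (CommRingCat.ofHom Φ) x = Spec.map (CommRingCat.ofHom Φ) y :=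
      PrimeSpectrum.ext (Ideal.ext fun z => h (Φ z) (hΦ z))
    have hjxy : G.j (hN.fromSpec x) = G.j (hN.fromSpec y) := by
      rw [← Scheme.Hom.comp_apply, ← Scheme.Hom.comp_apply, hj, Scheme.Hom.comp_apply, Scheme.Hom.comp_apply]
      exact congrArg m hxy
    have hsp : x ⤳ y := (PrimeSpectrum.le_iff_specializes (⟨P, hP⟩ : PrimeSpectrum T) ⟨P', hP'⟩).1 hle
    have := (G.j.isDiscrete_preimage_singleton (G.j (hN.fromSpec y))).eq_of_specializes
      (hsp.map hN.fromSpec.continuous) hjxy rfl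
    exact congrArg PrimeSpectrum.asIdeal (hN.fromSpec.isOpenEmbedding.injective this)
  let x₀ := hN.primeIdealOf ⟨r₀, hrN⟩
  let u₀ := hV.primeIdealOf ⟨u, huV⟩
  have hu₀ : u₀.asIdeal.IsMaximal := by
    rw [← PrimeSpectrum.isClosed_singleton_iff_isMaximal]
    have h1 : hV.primeIdealOf '' ({⟨u, huV⟩} : Set ↥V) = {u₀} := Set.image_singleton
    rw [← h1]
    exact hV.isoSpec.hom.homeomorph.isClosedMap _ hu
  have hx₀ : x₀.asIdeal.comap ρ = u₀.asIdeal := by
    refine congrArg PrimeSpectrum.asIdeal (hV.fromSpec.isOpenEmbedding.injective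
      (a₁ := PrimeSpectrum.comap ρ x₀) (a₂ := u₀) ?_)
    show (Spec.map (G.s.appLE V N hNs) ≫ hV.fromSpec) x₀ = _
    rw [hsq_s, Scheme.Hom.comp_apply, hN.fromSpec_primeIdealOf, hV.fromSpec_primeIdealOf]
    exact hrs
  obtain ⟨g₀, J, A, _, π, ι, hpush, hJ, hflat, Q, hQ, hqf⟩ := exists_slice_ringHom ρ τ
    (G.s.finitePresentation_appLE hV hN hNs) (Scheme.Hom.flat_appLE G.s hV hN hNs)
    (G.t.finiteType_appLE hV hN hNt) hinj u₀.asIdeal x₀ hx₀
  let Tg := Localization.Away g₀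
  let jg : Spec (CommRingCat.of Tg) ⟶ Spec T := Spec.map (CommRingCat.ofHom (algebraMap T Tg))
  have : IsOpenImmersion jg := IsOpenImmersion.of_isLocalization g₀
  let j : Spec (CommRingCat.of Tg) ⟶ G.R := jg ≫ hN.fromSpec
  let iJ : Spec (CommRingCat.of (O ⧸ J)) ⟶ Spec O := Spec.map (CommRingCat.ofHom (Ideal.Quotient.mk J))
  let Z : Scheme.{u} := Spec (CommRingCat.of (O ⧸ J))
  let g : Z ⟶ G.U := iJ ≫ hV.fromSpec
  have hiJ : LocallyOfFinitePresentation iJ := by
    refine (HasRingHomProperty.Spec_iff (P := @LocallyOfFinitePresentation)).2 ?_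
    exact RingHom.FinitePresentation.of_surjective _ Ideal.Quotient.mk_surjective
      (by rw [CommRingCat.hom_ofHom, Ideal.mk_ker]; exact hJ)
  have hg : LocallyOfFinitePresentation g :=
    inferInstanceAs (LocallyOfFinitePresentation (iJ ≫ hV.fromSpec))
  have hA := (isPullback_SpecMap_of_isPushout _ _ _ _ hpush)
  have hjt : Spec.map (CommRingCat.ofHom ((algebraMap T Tg).comp τ)) ≫ hV.fromSpec = j ≫ G.t := by
    rw [show CommRingCat.ofHom ((algebraMap T Tg).comp τ) =
      G.t.appLE V N hNt ≫ CommRingCat.ofHom (algebraMap T Tg) from rfl, Spec.map_comp, Category.assoc, hsq_t,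
      Category.assoc]
  let ιA := Spec.map (CommRingCat.ofHom ι)
  let πA := Spec.map (CommRingCat.ofHom π)
  have outer : IsPullback ιA πA (iJ ≫ hV.fromSpec) (j ≫ G.t) := by
    rw [← hjt]
    refine ⟨⟨by rw [← Category.assoc, ← Category.assoc, hA.w]⟩, ⟨PullbackCone.IsLimit.mk _
      (fun c => hA.lift c.fst c.snd ((cancel_mono hV.fromSpec).1 (by simpa using c.condition)))
      (fun c => hA.lift_fst _ _ _) (fun c => hA.lift_snd _ _ _)
      (fun c m h1 h2 => hA.hom_ext (by rw [hA.lift_fst]; exact h1) (by rw [hA.lift_snd]; exact h2))⟩⟩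
  have hP : IsPullback (pullback.snd G.t g) (pullback.fst G.t g) (iJ ≫ hV.fromSpec) G.t :=
    (IsPullback.of_hasPullback G.t g).flip
  let κ := hP.lift ιA (πA ≫ j) (by rw [Category.assoc]; exact outer.w)
  have hκ : IsPullback κ πA (pullback.fst G.t g) j :=
    IsPullback.of_right (by rw [hP.lift_fst]; exact outer) (hP.lift_snd _ _ _) hP
  have : IsOpenImmersion κ := MorphismProperty.of_isPullback (P := @IsOpenImmersion) hκ.flip inferInstance
  have hh : LocallyOfFinitePresentation (srcMap G g) := by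
    have : LocallyOfFinitePresentation (pullback.fst G.t g) :=
      MorphismProperty.of_isPullback (P := @LocallyOfFinitePresentation) hP hg
    rw [srcMap]
    infer_instance
  let ψ : O →+* A := π.comp ((algebraMap T Tg).comp ρ)
  have hκh : κ ≫ (srcMap G g) = Spec.map (CommRingCat.ofHom ψ) ≫ hV.fromSpec := by
    rw [srcMap, reassoc_of% (hP.lift_snd ιA (πA ≫ j) _),
      show CommRingCat.ofHom ψ = G.s.appLE V N hNs ≫ CommRingCat.ofHom (algebraMap T Tg) ≫ CommRingCat.ofHom π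
        from rfl, Spec.map_comp, Spec.map_comp]
    simp only [Category.assoc, j, jg, πA, hsq_s]
  refine ⟨Z, inferInstanceAs (IsAffine (Spec _)), g, κ Q, hg, ?_, ?_, ?_⟩
  · rw [← Scheme.Hom.comp_apply, hκh, Scheme.Hom.comp_apply,
      show Spec.map (CommRingCat.ofHom ψ) Q = u₀ from PrimeSpectrum.ext hQ]
    exact hV.fromSpec_primeIdealOf _
  · rw [← FibFlat.flat_stalk_open_comp κ]
    have : Flat (Spec.map (CommRingCat.ofHom ψ)) := (HasRingHomProperty.Spec_iff (P := @Flat)).2 hflat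
    have : Flat (κ ≫ (srcMap G g)) := by rw [hκh]; infer_instance
    exact Flat.stalkMap _ _
  · have h1 : (Spec.map (CommRingCat.ofHom ψ)).QuasiFiniteAt Q := by
      letI := ψ.toAlgebra
      have : Algebra.QuasiFiniteAt O Q.asIdeal := hqf
      let := Localization.AtPrime.algebraOfLiesOver (Q.asIdeal.under O) Q.asIdeal
      have h2 : Algebra.QuasiFinite (Localization.AtPrime (Q.asIdeal.under O)) (Localization.AtPrime Q.asIdeal) :=
        .of_restrictScalars O _ _
      rw [← RingHom.quasiFinite_algebraMap] at h2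
      exact (RingHom.QuasiFinite.respectsIso.arrow_mk_iso_iff (Scheme.arrowStalkMapSpecIso (CommRingCat.ofHom ψ) Q)).2 h2
    rw [← Scheme.Hom.quasiFiniteAt_comp_iff_of_isOpenImmersion (f := κ)]
    have h3 : (Spec.map (CommRingCat.ofHom ψ) ≫ hV.fromSpec).QuasiFiniteAt Q :=
      Scheme.Hom.quasiFiniteAt_comp_iff.2 h1
    exact (congrArg (fun φ : Spec (CommRingCat.of A) ⟶ G.U => φ.QuasiFiniteAt Q) hκh).mpr h3

end Groth.Agent.GrpQLib
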